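import Cfsg.Agent.H715.Mon.Norm
import Cfsg.Agent.H728.Four.Val
import Cfsg.Agent.H593.IMMonB
import Cfsg.Agent.ClassicalGeometry.SLTwoFour
import Cfsg.Agent.S0241
import Cfsg.Agent.S0242
import Cfsg.Agent.S3331

/-!
# S4171, row M: the element of order 51 of the Monster (helper529)

* `inf17` : `|C(y) ∩ C(t)| = 8 * 17` for `y` of order 17 and an involution `t` commuting with `y`;
* `deg_168` : a simple group of order 168, `k` of order 3 with `|C(k)| = 3`: `θ k ≠ 0` implies `θ(1) ∈ {1, 7, 8}`;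
* `exists_g` : an element `g` of order 51 of the Monster: strongly real, `|C(g)| = 51`, `|χ g| ≤ 1` for all `χ`, and `χ g ≠ 0`
  implies `χ(1) ≡ ± 1, ± 7, ± 8` modulo 17;
* `i4_of_deg`, `i4_pair` : products of four involutions by the pair lemma.
-/

set_option autoImplicit false
set_option maxRecDepth 100000

namespace Cfsg.Agent.H529.MSev.L17

open Cfsg Subgroup
open Cfsg.Agent.H241.NH Cfsg.Agent.H241.Mon Cfsg.Agent.H630.NH
open Cfsg.Agent.MonsterX Cfsg.Agent.MonsterX.InstData Cfsg.Agent.MonsterX.MainPack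
open Cfsg.Agent.LThreeMB (XX mk exists_mk mk_eq_one mk_eq_mk Zx self)
open Cfsg.Agent.H715.Mon.Cent Cfsg.Agent.H715.Mon.Grp Cfsg.Agent.H715.Mon.Exact Cfsg.Agent.H715.Mon.Norm
open Cfsg.Agent.Characters Cfsg.Agent.Characters.Core
open Cfsg.Agent.SmallSimple.ThetaSetup Cfsg.Agent.SmallSimple.ThetaOrtho
open Cfsg.Agent.SmallSimple.TheoremC Cfsg.Agent.SmallSimple.TheoremCCor
open Cfsg.Agent.H65.Ore (Prd one1 one1_apply)
open Cfsg.Agent.H854.Ore (SR)
open Cfsg.Agent.H777.Ore (I4)

universe u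

/-! ### `PSL(2,7)` -/

section seven

open Matrix

/-- `SL(2,7)` and `PSL(2,7)` -/
abbrev SL7 : Type := SpecialLinearGroup (Fin 2) (ZMod 7)
abbrev PSL7 : Type := ProjectiveSpecialLinearGroup (Fin 2) (ZMod 7)

/-- the element of order 4 -/
def mS : SL7 := ⟨!![0, 1; -1, 0], by decide⟩

/-- the solutions of the two systems of equations -/
theorem count : Fintype.card {p : Fin 2 → Fin 2 → ZMod 7 //
    (p 0 0 * p 1 1 - p 0 1 * p 1 0 = 1) ∧ ((p 1 0 = - p 0 1 ∧ p 1 1 = p 0 0) ∨ (p 1 0 = p 0 1 ∧ p 1 1 = - p 0 0))} = 16 := by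
  decide +kernel

theorem sq_one : ∀ r : ZMod 7, r ^ 2 = 1 → r = 1 ∨ r = -1 := by decide

/-- entries of the products -/
theorem ent (B : SL7) : (B * mS).1 = !![-B.1 0 1, B.1 0 0; -B.1 1 1, B.1 1 0] ∧
    (mS * B).1 = !![B.1 1 0, B.1 1 1; -B.1 0 0, -B.1 0 1] := by
  have h1 : (B * mS).1 = B.1 * mS.1 := rfl
  have h2 : (mS * B).1 = mS.1 * B.1 := rfl
  rw [h1, h2]
  have h3 : mS.1 = !![0, 1; -1, 0] := rfl
  rw [h3]
  constructor
  · ext i j
    fin_cases i <;> fin_cases j <;> simp [Matrix.mul_apply, Fin.sum_univ_two]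
  · ext i j
    fin_cases i <;> fin_cases j <;> simp [Matrix.mul_apply, Fin.sum_univ_two]

theorem mem_comap (B : SL7) : B ∈ (centralizer ({(QuotientGroup.mk mS : PSL7)} : Set PSL7)).comap
      (QuotientGroup.mk' (center SL7)) ↔
      (B.1 1 0 = - B.1 0 1 ∧ B.1 1 1 = B.1 0 0) ∨ (B.1 1 0 = B.1 0 1 ∧ B.1 1 1 = - B.1 0 0) := by
  rw [Subgroup.mem_comap, mem_centralizer_singleton_iff, QuotientGroup.mk'_apply]
  have h0 : (QuotientGroup.mk B * QuotientGroup.mk mS : PSL7) = QuotientGroup.mk mS * QuotientGroup.mk B ↔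
      (B * mS)⁻¹ * (mS * B) ∈ center SL7 := by
    rw [← QuotientGroup.eq]; rfl
  rw [h0, Matrix.SpecialLinearGroup.mem_center_iff]
  obtain ⟨e1, e2⟩ := ent B
  constructor
  · rintro ⟨r, hr, hrs⟩
    have h1 : mS * B = (B * mS) * ((B * mS)⁻¹ * (mS * B)) := by group
    have h2 : (mS * B).1 = (B * mS).1 * ((B * mS)⁻¹ * (mS * B)).1 := congrArg Subtype.val h1
    have h3 : ((B * mS)⁻¹ * (mS * B)).1 = Matrix.scalar (Fin 2) r := hrs.symm
    rw [h3, e1, e2] at h2
    have h4 := congrFun (congrFun h2 0) 0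
    have h5 := congrFun (congrFun h2 0) 1
    simp [Matrix.mul_apply, Fin.sum_univ_two] at h4 h5
    rw [Fintype.card_fin] at hr
    rcases sq_one r hr with rfl | rfl
    · left
      exact ⟨by rw [h4, mul_one], by rw [h5, mul_one]⟩
    · right
      exact ⟨by rw [h4]; ring, by rw [h5]; ring⟩
  · intro h
    have h3 : ∃ r : ZMod 7, r ^ 2 = 1 ∧ (mS * B).1 = (B * mS).1 * Matrix.scalar (Fin 2) r := by
      rcases h with ⟨h1, h2⟩ | ⟨h1, h2⟩
      · refine ⟨1, by decide, ?_⟩
        rw [e1, e2, h1, h2]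
        ext i j
        fin_cases i <;> fin_cases j <;> simp [Matrix.mul_apply, Fin.sum_univ_two]
      · refine ⟨-1, by decide, ?_⟩
        rw [e1, e2, h1, h2]
        ext i j
        fin_cases i <;> fin_cases j <;> simp [Matrix.mul_apply, Fin.sum_univ_two]
    obtain ⟨r, hr, h4⟩ := h3
    refine ⟨r, by rw [Fintype.card_fin]; exact hr, ?_⟩
    have h5 : ((B * mS)⁻¹ * (mS * B)).1 = (B * mS)⁻¹.1 * (mS * B).1 := rfl
    have h6 : (B * mS)⁻¹.1 * (B * mS).1 = 1 := by
      have h7 : ((B * mS)⁻¹ * (B * mS)).1 = (1 : SL7).1 := by rw [inv_mul_cancel]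
      exact h7
    show Matrix.scalar (Fin 2) r = ((B * mS)⁻¹ * (mS * B)).1
    rw [h5, h4, ← Matrix.mul_assoc, h6, Matrix.one_mul]

theorem order_mS : orderOf (QuotientGroup.mk mS : PSL7) = 2 := by
  have : Fact (Nat.Prime 2) := ⟨Nat.prime_two⟩
  refine orderOf_eq_prime ?_ ?_
  · rw [← QuotientGroup.mk_pow, QuotientGroup.eq_one_iff, Matrix.SpecialLinearGroup.mem_center_iff]
    refine ⟨-1, by decide, ?_⟩
    decide +kernel
  · intro h
    rw [QuotientGroup.eq_one_iff, Matrix.SpecialLinearGroup.mem_center_iff] at h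
    obtain ⟨r, -, h⟩ := h
    have h1 := congrFun (congrFun h 0) 1
    revert h1
    revert r
    decide +kernel

/-- the solutions of the equations in the group -/
noncomputable def eqv : ((centralizer ({(QuotientGroup.mk mS : PSL7)} : Set PSL7)).comap (QuotientGroup.mk' (center SL7)) :
    Subgroup SL7) ≃ {p : Fin 2 → Fin 2 → ZMod 7 //
    (p 0 0 * p 1 1 - p 0 1 * p 1 0 = 1) ∧ ((p 1 0 = - p 0 1 ∧ p 1 1 = p 0 0) ∨ (p 1 0 = p 0 1 ∧ p 1 1 = - p 0 0))} where
  toFun B := ⟨B.1.1, by rw [← Matrix.det_fin_two]; exact B.1.2, (mem_comap B.1).1 B.2⟩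
  invFun p := ⟨⟨Matrix.of p.1, by rw [Matrix.det_fin_two]; exact p.2.1⟩, (mem_comap _).2 p.2.2⟩
  left_inv _ := rfl
  right_inv _ := rfl

theorem card_cent_mS : Nat.card (centralizer ({(QuotientGroup.mk mS : PSL7)} : Set PSL7)) = 8 := by
  have hF : Fact (Nat.Prime 7) := ⟨by norm_num⟩
  have h0 : Nat.card ((centralizer ({(QuotientGroup.mk mS : PSL7)} : Set PSL7)).comap
      (QuotientGroup.mk' (center SL7))) = 16 := by
    rw [Nat.card_congr eqv, Nat.card_eq_fintype_card, count]
  have h1 := ((centralizer ({(QuotientGroup.mk mS : PSL7)} : Set PSL7)).comap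
      (QuotientGroup.mk' (center SL7))).card_mul_index
  rw [index_comap_of_surjective _ (QuotientGroup.mk'_surjective _), h0] at h1
  have h2 := (centralizer ({(QuotientGroup.mk mS : PSL7)} : Set PSL7)).card_mul_index
  have h3 : Nat.card PSL7 = 168 := Cfsg.Agent.SmallSimple.PSLFacts.card_psl_two_seven (ZMod.card 7)
  have h4 : Nat.card SL7 = 336 := by
    have h5 : (7 - 1) * Nat.card SL7 = ∏ i : Fin 2, (7 ^ 2 - 7 ^ (i : ℕ)) :=
      S0242.result (F := ZMod 7) (ZMod.card 7) 2 (by norm_num)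
    rw [Fin.prod_univ_two] at h5
    have h6 : (6 : ℕ) * Nat.card SL7 = 6 * 336 := h5
    exact Nat.eq_of_mul_eq_mul_left (by norm_num) h6
  rw [h3] at h2
  rw [h4] at h1
  have h5 : (centralizer ({(QuotientGroup.mk mS : PSL7)} : Set PSL7)).index = 21 := by omega
  rw [h5] at h2
  omega

/-- **the centralizer of an involution of `PSL(2,7)` has order 8** -/
theorem card_cent_seven {a : PSL7} (ha : orderOf a = 2) : Nat.card (centralizer ({a} : Set PSL7)) = 8 := by
  have hF : Fact (Nat.Prime 7) := ⟨by norm_num⟩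
  obtain ⟨g, hg⟩ := isConj_iff.1 (ClassicalGeometry.SLTwoFour.psl_isConj (F := ZMod 7) (by rw [ZMod.card]; decide) _ _
    order_mS ha)
  rw [← hg, ← MulAut.conj_apply, centralizer_map_equiv (MulAut.conj g), card_map_of_injective (MulAut.conj g).injective,
    card_cent_mS]

end seven


/-! ### The simple group of order 168 -/

section K

variable {K : Type u} [Group K] [Finite K]

/-- the centralizers of the elements of order 3 -/
theorem cent_three {k : K} (hk : orderOf k = 3) (h9 : ¬ 3 ^ 2 ∣ Nat.card K) (hc : Nat.card (centralizer ({k} : Set K)) = 3)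
    {x : K} (hx : orderOf x = 3) : Nat.card (centralizer ({x} : Set K)) = 3 := by
  obtain ⟨g, hg, hg'⟩ := H715.Mon.Grp.conj_of_not_sq Nat.prime_three h9 hk hx
  have h1 : centralizer ({g * x * g⁻¹} : Set K) = centralizer ({k} : Set K) := by
    rw [← SmallSimple.SelfCentPrime.centralizer_zpowers (g * x * g⁻¹), ← SmallSimple.SelfCentPrime.centralizer_zpowers k]
    congr 1
    have h2 : zpowers (g * x * g⁻¹) = zpowers k := le_antisymm (by rw [zpowers_le]; exact hg) (by rw [zpowers_le]; exact hg')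
    rw [h2]
  have h2 : Nat.card (centralizer ({g * x * g⁻¹} : Set K)) = Nat.card (centralizer ({x} : Set K)) := by
    rw [← MulAut.conj_apply, centralizer_map_equiv (MulAut.conj g), card_map_of_injective (MulAut.conj g).injective]
  rw [← h2, h1, hc]

/-- all elements of order 3 are conjugate -/
theorem conj_three (h168 : Nat.card K = 168) {k : K} (hk : orderOf k = 3) (hc : Nat.card (centralizer ({k} : Set K)) = 3)
    {x y : K} (hx : orderOf x = 3) (hy : orderOf y = 3) : IsConj x y := by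
  have h9 : ¬ 3 ^ 2 ∣ Nat.card K := by rw [h168]; norm_num
  refine isConj_of Nat.prime_three h9 (fun P hP => ?_) hx hy
  exact (relIndex_eq (c := 3) (e := 2) Nat.prime_three h9 (fun x hx => cent_three hk h9 hc hx) (by norm_num)
    (by rw [h168]) hP).1

/-- a perfect group has no linear characters -/
theorem eq_one_of_deg {K : Type u} [Group K] [Finite K] (hcom : commutator K = ⊤) {θ : IrrCharacter K}
    (hd : charDegree (θ : K → ℂ) = 1) : θ = one1 K := by
  have hn1 : (θ : K → ℂ) 1 = 1 := by rw [← H686.CharKit.charDegree_irr θ, hd, Nat.cast_one]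
  obtain ⟨f, hf⟩ := Cfsg.Agent.Characters.Linear.exists_hom_of_isIrrCharacter θ.2 hn1
  apply Subtype.ext
  funext g
  rw [one1_apply, hf]
  show ((f g : ℂˣ) : ℂ) = 1
  have h3 : f.ker = ⊤ := by
    rw [eq_top_iff, ← hcom]
    exact Abelianization.commutator_subset_ker f
  have h4 : f g = 1 := by
    have : g ∈ f.ker := by rw [h3]; exact mem_top g
    exact this
  rw [h4]; rfl

/-- **the degrees of the characters which do not vanish at an element of order 3** -/
theorem deg_168 (hcom : commutator K = ⊤) (h168 : Nat.card K = 168) {k : K} (hk : orderOf k = 3)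
    (hc : Nat.card (centralizer ({k} : Set K)) = 3) (θ : IrrCharacter K) (h0 : (θ : K → ℂ) k ≠ 0) :
    charDegree (θ : K → ℂ) ∈ [1, 7, 8] := by
  classical
  have : Finite (IrrCharacter K) := finite_irr
  have := Fintype.ofFinite (IrrCharacter K)
  obtain ⟨f, hf, f1, h2, h3⟩ := H728.Four.Val.exists_val hk hc (conj_three h168 hk hc hk (by rw [orderOf_inv, hk]))
  have hd1 : charDegree (one1 K : K → ℂ) = 1 := by
    rw [H686.CharKit.charDegree_eq_one_iff]
    exact one1_apply 1
  by_cases h1 : θ = one1 K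
  · rw [h1, hd1]; simp
  have hdz : ∀ x : IrrCharacter K, f x ≠ 0 → ¬ 3 ∣ charDegree (x : K → ℂ) := fun x hx hd => hx (by
    have h4 := H529.Inv.Pair.van_dz x (q := 3) (c := 1) Nat.prime_three (by rw [h168]; norm_num) (by rw [h168]; norm_num)
      (by rwa [pow_one]) (k := k) (by rw [hk])
    rw [hf] at h4
    exact_mod_cast h4)
  have hf0 : f θ ≠ 0 := fun h => h0 (by rw [hf, h, Int.cast_zero])
  -- the third character
  obtain ⟨θ', h1', hne, hf0'⟩ : ∃ θ' : IrrCharacter K, θ' ≠ one1 K ∧ θ' ≠ θ ∧ f θ' ≠ 0 := by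
    by_contra hcon
    push Not at hcon
    have h4 : ∑ x, f x ^ 2 = f (one1 K) ^ 2 + f θ ^ 2 := by
      rw [← Finset.sum_pair (f := fun x => f x ^ 2) (Ne.symm h1)]
      symm
      refine Finset.sum_subset (Finset.subset_univ _) fun x _ hx => ?_
      simp only [Finset.mem_insert, Finset.mem_singleton, not_or] at hx
      rw [hcon x hx.1 hx.2]; rfl
    rw [h2, f1] at h4
    have h5 : f θ * f θ = 2 := by nlinarith
    have h6 : |f θ| ≤ 1 := by
      rw [abs_le]; constructor <;> nlinarith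
    have h7 := abs_le.1 h6
    obtain ⟨h8, h9⟩ := h7
    interval_cases (f θ) <;> omega
  set s : Finset (IrrCharacter K) := {one1 K, θ, θ'} with hs
  have hsum : ∀ g : IrrCharacter K → ℤ, ∑ x ∈ s, g x = g (one1 K) + (g θ + g θ') := by
    intro g
    rw [hs, Finset.sum_insert (by simp [Ne.symm h1, Ne.symm h1']), Finset.sum_pair (Ne.symm hne)]
  have hsplit : ∀ g : IrrCharacter K → ℤ, ∑ x, g x = ∑ x ∈ s, g x + ∑ x ∈ sᶜ, g x := fun g =>
    (Finset.sum_add_sum_compl s g).symm
  have h4 := h2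
  rw [hsplit, hsum, f1] at h4
  have h5 : 0 ≤ ∑ x ∈ sᶜ, f x ^ 2 := Finset.sum_nonneg fun _ _ => sq_nonneg _
  have h6 : 1 ≤ f θ ^ 2 := by
    have := sq_nonneg (f θ)
    have h7 : f θ ^ 2 ≠ 0 := pow_ne_zero 2 hf0
    omega
  have h6' : 1 ≤ f θ' ^ 2 := by
    have := sq_nonneg (f θ')
    have h7 : f θ' ^ 2 ≠ 0 := pow_ne_zero 2 hf0'
    omega
  have h7 : ∑ x ∈ sᶜ, f x ^ 2 = 0 := by omega
  have h8 : ∀ x ∈ sᶜ, f x = 0 := by
    intro x hx
    have := (Finset.sum_eq_zero_iff_of_nonneg fun _ _ => sq_nonneg _).1 h7 x hx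
    exact pow_eq_zero_iff (two_ne_zero) |>.1 this
  have g1 : f θ = 1 ∨ f θ = -1 := by
    have h9 : f θ ^ 2 = 1 := by omega
    exact sq_eq_one_iff.1 h9
  have g2 : f θ' = 1 ∨ f θ' = -1 := by
    have h9 : f θ' ^ 2 = 1 := by omega
    exact sq_eq_one_iff.1 h9
  rw [hsplit, hsum, f1, Finset.sum_eq_zero fun x hx => by rw [h8 x hx, zero_mul], hd1] at h3
  push_cast at h3
  -- the degrees
  have hdeg : charDegree (θ : K → ℂ) ^ 2 + charDegree (θ' : K → ℂ) ^ 2 ≤ 168 := by
    rw [← h168, ← H686.CharKit.sum_deg_sq,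
      ← Finset.sum_pair (f := fun x : IrrCharacter K => charDegree (x : K → ℂ) ^ 2) (Ne.symm hne)]
    exact Finset.sum_le_sum_of_subset_of_nonneg (Finset.subset_univ _) fun _ _ _ => Nat.zero_le _
  have k1 : charDegree (θ : K → ℂ) ∣ 168 := by rw [← h168]; exact Blocks.Knorr.charDegree_dvd θ.2
  have k2 : charDegree (θ' : K → ℂ) ∣ 168 := by rw [← h168]; exact Blocks.Knorr.charDegree_dvd θ'.2
  have k3 := hdz θ hf0
  have k4 := hdz θ' hf0'
  have k5 : charDegree (θ : K → ℂ) ≠ 1 := fun h => h1 (eq_one_of_deg hcom h)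
  have k6 : charDegree (θ' : K → ℂ) ≠ 1 := fun h => h1' (eq_one_of_deg hcom h)
  generalize charDegree (θ : K → ℂ) = d at *
  generalize charDegree (θ' : K → ℂ) = d' at *
  have k7 : d ≤ 12 := by nlinarith
  have k8 : d' ≤ 12 := by nlinarith
  rcases g1 with g1 | g1 <;> rcases g2 with g2 | g2 <;> rw [g1, g2] at h3
  · exfalso; omega
  · interval_cases d <;> simp at k1 k3 k5 ⊢ <;> interval_cases d' <;> simp at k2 k4 k6 h3
  · interval_cases d <;> simp at k1 k3 k5 ⊢ <;> interval_cases d' <;> simp at k2 k4 k6 h3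
  · exfalso
    have : d = 0 := by omega
    rw [this] at k3
    exact k3 (dvd_zero 3)

end K


/-! ### The Monster -/

theorem sThree : SThree.{0} := fun _ _ _ X hX hC => S3331.result X hX hC

/-- **`|C(y) ∩ C(t)| = 8 * 17`** -/
theorem inf17 {y : Gam} (hy : orderOf y = 17) {t : Gam} (ht : orderOf t = 2) (h : t * y = y * t) :
    Nat.card ↥(centralizer ({y} : Set Gam) ⊓ centralizer ({t} : Set Gam)) = 8 * 17 := by
  obtain ⟨e⟩ := iso17 sThree hy
  rw [card_inf (by decide) hy (mul_self_of ht) h, LThreeB.card_centralizer_congr e (mk y h), card_cent_seven]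
  rw [MulEquiv.orderOf_eq, order_two (by norm_num) (by norm_num) hy ht h]

theorem simple_seven : IsSimpleGroup PSL7 := by
  have hF : Fact (Nat.Prime 7) := ⟨by norm_num⟩
  exact TwoFusion.SLTwoFacts.isSimpleGroup_psl (F := ZMod 7) (by rw [ZMod.card]; norm_num)

/-- the complement is perfect -/
theorem comp_iso {p : ℕ} [hF : Fact p.Prime] {P : Sylow p Gam} {K : Subgroup Gam} (hK : IsComp p (P : Subgroup Gam) K) {y : Gam}
    (hP : (P : Subgroup Gam) = zpowers y) (hy : orderOf y = p) (hc : Nat.card K = Nat.card (XX y)) :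
    Nonempty (K ≃* XX y) := by
  have hle : K ≤ centralizer ({y} : Set Gam) := by
    intro k hk
    rw [mem_centralizer_singleton_iff]
    exact (hK.comm (x := y) (y := k) (by
      show y ∈ (P : Subgroup Gam)
      rw [hP]; exact mem_zpowers y) hk).symm
  let f : K →* XX y := (QuotientGroup.mk' (Zx y)).comp (inclusion hle)
  have hf : Function.Injective f := by
    rw [injective_iff_map_eq_one]
    intro k hk
    have h1 : f k = mk y (mem_centralizer_singleton_iff.1 (hle k.2)) := rfl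
    rw [h1, LThreeMB.mk_eq_one] at hk
    obtain ⟨i, hi⟩ := hk
    have h2 : orderOf (k : Gam) ∣ p := by
      apply orderOf_dvd_of_pow_eq_one
      rw [← hi, ← zpow_natCast, ← zpow_mul, mul_comm, zpow_mul, zpow_natCast, ← hy, pow_orderOf_eq_one, one_zpow]
    have h3 : ¬ p ∣ orderOf (k : Gam) := ((hK k).1 k.2).2
    have h4 : orderOf (k : Gam) = 1 := ((Nat.dvd_prime hF.out).1 h2).resolve_right fun h => h3 (by rw [h])
    exact Subtype.ext (orderOf_eq_one_iff.1 h4)
  have : Finite (XX y) := by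
    show Finite (centralizer ({y} : Set Gam) ⧸ Zx y)
    infer_instance
  exact ⟨MulEquiv.ofBijective f (hf.bijective_of_nat_card_le hc.ge)⟩

/-- the local data of an element of order 17 -/
theorem local17 {y : Gam} (hy : orderOf y = 17) : ∃ (P : Sylow 17 Gam) (K : Subgroup Gam),
    (P : Subgroup Gam) = zpowers y ∧ Nat.card P = 17 ∧ IsComp 17 (P : Subgroup Gam) K ∧ Nat.card K = 168 ∧
      commutator K = ⊤ ∧
      (centralizer ((P : Subgroup Gam) : Set Gam)).relIndex (normalizer ((P : Subgroup Gam) : Set Gam)) = 16 := by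
  have h17 : Nat.Prime 17 := by norm_num
  have hF : Fact (Nat.Prime 17) := ⟨h17⟩
  have h1 : 17 ∣ Nat.card Gam := by rw [card_G]; norm_num
  have h2 : ¬ 17 ^ 2 ∣ Nat.card Gam := by rw [card_G]; norm_num
  have hpg : IsPGroup 17 (zpowers y) := IsPGroup.of_card (n := 1) (by rw [Nat.card_zpowers, hy, pow_one])
  obtain ⟨P, hyP⟩ := hpg.exists_le_sylow
  have hP : Nat.card P = 17 := SmallSimple.PrimeLocal.card_of_not_sq_dvd h1 h2 P
  have hPx : (P : Subgroup Gam) = zpowers y := by
    have h3 : Nat.card (zpowers y) = Nat.card (P : Subgroup Gam) := by rw [Nat.card_zpowers, hy]; exact hP.symm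
    exact (Subgroup.eq_of_le_of_card_ge hyP h3.ge).symm
  obtain ⟨K, hK⟩ := exists_isComp P hP
  have hCP : Nat.card (centralizer ((P : Subgroup Gam) : Set Gam)) = 168 * 17 := by
    rw [hPx, SmallSimple.SelfCentPrime.centralizer_zpowers, card17 sThree hy]
  have hKc : Nat.card K = 168 := by
    have h3 := SmallSimple.ThetaOrtho.card_centralizer hK hP
    rw [hCP, mul_comm] at h3
    exact (Nat.eq_of_mul_eq_mul_left (by norm_num) h3).symm
  have hXX : Nat.card (XX y) = 168 := by
    have h3 := card17 sThree hy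
    rw [card_XX hy] at h3
    exact Nat.eq_of_mul_eq_mul_right (by norm_num) h3
  obtain ⟨e⟩ := comp_iso hK hPx hy (by rw [hKc, hXX])
  obtain ⟨e'⟩ := iso17 sThree hy
  have hs := simple_seven
  have : IsSimpleGroup K := (e.trans e').isSimpleGroup
  refine ⟨P, K, hPx, hP, hK, hKc, ?_, ?_⟩
  · have hn : (commutator K).Normal := inferInstance
    rcases hn.eq_bot_or_eq_top with h | h
    · exfalso
      have hcomm : ∀ a b : K, a * b = b * a := fun a b => by
        have h3 : a * b * a⁻¹ * b⁻¹ ∈ commutator K := commutator_mem_commutator (mem_top a) (mem_top b)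
        rw [h, mem_bot] at h3
        have h4 : a * b * (b * a)⁻¹ = 1 := by rw [← h3]; group
        exact mul_inv_eq_one.1 h4
      have h5 : centralizer ({(QuotientGroup.mk mS : PSL7)} : Set PSL7) = ⊤ := by
        rw [eq_top_iff]
        intro a _
        rw [mem_centralizer_singleton_iff]
        have h6 := hcomm ((e.trans e').symm a) ((e.trans e').symm (QuotientGroup.mk mS : PSL7))
        rw [← map_mul, ← map_mul] at h6
        exact (e.trans e').symm.injective h6
      have h6 := card_cent_mS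
      have hF7 : Fact (Nat.Prime 7) := ⟨by norm_num⟩
      rw [h5, Subgroup.card_top, Cfsg.Agent.SmallSimple.PSLFacts.card_psl_two_seven (ZMod.card 7)] at h6
      norm_num at h6
    · exact h
  · exact (relIndex_eq (c := 168 * 17) (e := 16) h17 h2 (fun x hx => card17 sThree hx) (by norm_num)
      (by rw [card_G]) hP).1


/-- the residues of the degrees modulo 17 -/
def res17 : List ℕ := [1, 7, 8, 9, 10, 16]

theorem list_ok : H529.Inv.Pair.listOK 17 16 168 3 1 (fun m n => Nat.beq m 1 && [1, 7, 8].contains n) res17 = true := by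
  decide +kernel

/-- **the element of order 51** -/
theorem exists_g : ∃ g : Gam, orderOf g = 51 ∧ Nat.card (centralizer ({g} : Set Gam)) = 51 ∧ SR g ∧
    (∀ χ : IrrCharacter Gam, ‖(χ : Gam → ℂ) g‖ ≤ 1) ∧
    ∀ χ : IrrCharacter Gam, (χ : Gam → ℂ) g ≠ 0 → charDegree (χ : Gam → ℂ) % 17 ∈ res17 := by
  obtain ⟨g, w, hw, hg, hc⟩ := H593.IMMonB.g51
  have hg : orderOf g = 51 := hg
  have hC : Nat.card (centralizer ({g} : Set Gam)) = 51 := by
    refine Nat.dvd_antisymm hc ?_
    rw [← hg, ← Subgroup.orderOf_mk g (mem_centralizer_singleton_iff.2 rfl)]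
    exact orderOf_dvd_natCard _
  have hg1 : g ≠ 1 := by
    rintro rfl
    rw [orderOf_one] at hg
    norm_num at hg
  obtain ⟨t, ht, htg⟩ := S0241.result g hg1 (isConj_iff.2 ⟨w, hw⟩) (by rw [hC]; decide)
  have hSR : SR g := ⟨t, mul_self_of ht, htg⟩
  -- the two parts
  have hu : orderOf (g ^ 18) = 17 := by
    rw [orderOf_pow' g (by norm_num), hg]; rfl
  have hv : orderOf (g ^ 34) = 3 := by
    rw [orderOf_pow' g (by norm_num), hg]; rfl
  have huv : g ^ 18 * g ^ 34 = g := by
    rw [← pow_add]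
    have h1 : g ^ 51 = 1 := by rw [← hg, pow_orderOf_eq_one]
    rw [show 18 + 34 = 51 + 1 from rfl, pow_add, h1, one_mul, pow_one]
  generalize hu' : g ^ 18 = u at *
  generalize hv' : g ^ 34 = v at *
  have hcomm : u * v = v * u := by
    rw [← hu', ← hv', ← pow_add, ← pow_add, Nat.add_comm]
  have hF : Fact (Nat.Prime 17) := ⟨by norm_num⟩
  obtain ⟨P, K, hPx, hP, hK, hKc, hcom, he⟩ := local17 hu
  have hvK : v ∈ K := by
    rw [hK v]
    refine ⟨?_, by rw [hv]; norm_num⟩
    rw [hPx, SmallSimple.SelfCentPrime.centralizer_zpowers, mem_centralizer_singleton_iff]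
    exact hcomm.symm
  have huP : u ∈ (P : Subgroup Gam) := by rw [hPx]; exact mem_zpowers u
  have ha : (⟨u, huP⟩ : (P : Subgroup Gam)) ≠ 1 := by
    intro h
    have h1 : u = 1 := congrArg Subtype.val h
    rw [h1, orderOf_one] at hu
    norm_num at hu
  have hk : orderOf (⟨v, hvK⟩ : K) = 3 := by rw [Subgroup.orderOf_mk, hv]
  have hck : Nat.card (centralizer ({(⟨v, hvK⟩ : K)} : Set K)) = 3 := by
    have h1 : Nat.card (centralizer ({(⟨v, hvK⟩ : K)} : Set K)) ∣ 168 := by
      rw [← hKc]; exact card_subgroup_dvd_card _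
    have h2 : Nat.card (centralizer ({(⟨v, hvK⟩ : K)} : Set K)) ∣ 51 := by
      have h0 : Nat.card ((centralizer ({(⟨v, hvK⟩ : K)} : Set K)).map K.subtype) =
          Nat.card (centralizer ({(⟨v, hvK⟩ : K)} : Set K)) := card_map_of_injective K.subtype_injective
      rw [← hC, ← h0]
      apply card_dvd_of_le
      rintro _ ⟨x, hx, rfl⟩
      rw [mem_centralizer_singleton_iff]
      have h3 : (x : Gam) * v = v * x := congrArg Subtype.val (mem_centralizer_singleton_iff.1 hx)
      have h4 : u * (x : Gam) = (x : Gam) * u := hK.comm (x := u) (y := (x : Gam)) huP x.2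
      show (x : Gam) * g = g * (x : Gam)
      rw [← huv]
      calc (x : Gam) * (u * v) = (x * u) * v := by group
        _ = u * (x * v) := by rw [← h4]; group
        _ = _ := by rw [h3]; group
    have h3 : 3 ∣ Nat.card (centralizer ({(⟨v, hvK⟩ : K)} : Set K)) := by
      rw [← hk, ← Subgroup.orderOf_mk (⟨v, hvK⟩ : K) (mem_centralizer_singleton_iff.2 rfl)]
      exact orderOf_dvd_natCard _
    have h4 := Nat.dvd_gcd h1 h2
    exact Nat.dvd_antisymm h4 h3
  have hone : ∀ k' : K, orderOf k' = 3 → IsConj k' (⟨v, hvK⟩ : K) := fun k' hk' => conj_three hKc hk hck hk' hk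
  have hr : IsConj (⟨v, hvK⟩ : K) (⟨v, hvK⟩ : K)⁻¹ := (hone _ (by rw [orderOf_inv, hk])).symm
  have hmul : ((⟨u, huP⟩ : (P : Subgroup Gam)) : Gam) * ((⟨v, hvK⟩ : K) : Gam) = g := huv
  refine ⟨g, hg, hC, hSR, fun χ => ?_, fun χ h0 => ?_⟩
  · have h1 := H728.Four.Val.norm_le_one hK hP he ha hk hck hr hone χ
    rwa [hmul] at h1
  · rw [← hmul] at h0
    have h2 := list_ok
    rw [← hKc] at h2
    refine H529.Inv.Pair.van_mod (e := 16) (t := 1) hK hP he rfl ha Nat.prime_three (c := 1) (by rw [hKc]; norm_num)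
      (by rw [hKc]; norm_num) (by rw [hk]) _ (fun θ hθ => ?_) res17 h2 h0
    have h3 := deg_168 hcom hKc hk hck θ hθ
    have h4 : (orb P K (θ : K → ℂ)).card = 1 := by
      rw [orb_of_stable θ.2 fun n hn => H728.Four.Val.stable hK hk hck hr hone θ hθ n hn, Finset.card_singleton]
    rw [h4]
    simp only [List.mem_cons, List.not_mem_nil, or_false] at h3
    rcases h3 with h3 | h3 | h3 <;> rw [h3] <;> rfl

/-- **Products of four involutions of the Monster from a bound for the degrees.** -/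
theorem i4_of_deg {D B : ℕ}
    (hdeg : ∀ χ : IrrCharacter Gam, (χ : Gam → ℂ) ≠ 1 → charDegree (χ : Gam → ℂ) % 17 ∈ res17 →
      D ≤ charDegree (χ : Gam → ℂ))
    (hnum : 50 * (B - 1) < D ^ 2) {h : Gam} (hh : Nat.card (centralizer ({h} : Set Gam)) ≤ B) : I4 h := by
  obtain ⟨g, -, hC, hSR, h1, h2⟩ := exists_g
  refine H529.Inv.Pair.i4_pair hSR hSR (mx := 1) (cy := 51) (c := B) (d := D) (fun χ => ?_) hC.le
    (fun χ hχ h0 _ => hdeg χ hχ (h2 χ h0)) (by simpa using hnum) hh
  rw [Nat.cast_one]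
  exact pow_le_one₀ (norm_nonneg _) (h1 χ)

/-- **Pairs of an element `x` with self-centralizing properties and the element of order 51.** -/
theorem i4_of_pair {x : Gam} (hx : SR x) {cx : ℕ} (hcx : Nat.card (centralizer ({x} : Set Gam)) ≤ cx) {D B : ℕ}
    (hdeg : ∀ χ : IrrCharacter Gam, (χ : Gam → ℂ) ≠ 1 → (χ : Gam → ℂ) x ≠ 0 → charDegree (χ : Gam → ℂ) % 17 ∈ res17 →
      D ≤ charDegree (χ : Gam → ℂ))
    (hnum : (cx - 1) * (B - 1) < D ^ 2) {h : Gam} (hh : Nat.card (centralizer ({h} : Set Gam)) ≤ B) : I4 h := by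
  obtain ⟨g, -, hC, hSR, h1, h2⟩ := exists_g
  refine H529.Inv.Pair.i4_pair hSR hx (mx := 1) (cy := cx) (c := B) (d := D) (fun χ => ?_) hcx
    (fun χ hχ h0 h0' => hdeg χ hχ h0' (h2 χ h0)) (by simpa using hnum) hh
  rw [Nat.cast_one]
  exact pow_le_one₀ (norm_nonneg _) (h1 χ)

end Cfsg.Agent.H529.MSev.L17
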