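import Cfsg.Agent.H529.MSev.Row
import Cfsg.Agent.H146.Mon.Two
import Cfsg.Agent.H740.OreM.ThreeFour
import Cfsg.Agent.H860.I4.MThree
import Cfsg.Agent.H455.OreM.Loc

/-!
# S4171, row M (helper529; parts of helper146, 995, 740, 860, 455, 58, 8, 537, 497, 979)

`four_M_of` : every element of the Monster is a product of four involutions.
-/

set_option autoImplicit false
set_option maxRecDepth 100000

namespace Cfsg.Agent.H529.MSev

open Cfsg Subgroup
open Cfsg.Agent.BpSpor.MBigModel (MG zz)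
open Cfsg.Agent.H777.Ore (I4 Inv4)
open Cfsg.Agent.H940.Eng (Base)

universe u

theorem four_MG_of (B : Base) (hT : ∀ x : Spor.Co1, x ≠ 1 → (∃ k : ℕ, orderOf x = 2 ^ k) → H146.Mon.Four x)
    (hB : ∀ {x : MG} {q : ℕ}, q.Prime → 5 ≤ q → orderOf x = q →
      Nat.card (centralizer ({x} : Set MG)) ≤ 2000000000000000) : Inv4 MG := by
  have hS := H715.Mon.Grp.sThree B
  have hK := H438.Fpr.Mon.allKnown B
  exact Row.four_of (fun g hg => Row.t1_of hK hS (H455.OreM.Deg19.deg_M19 B) hg) hB
    (fun g hg => H146.Mon.two_M hT g hg)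
    (fun g hg => H740.OreM.ThreeFour.three_i4 (fun U hU ht => H860.I4.sr_three hS hU ht) hg)

end Cfsg.Agent.H529.MSev
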