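import Cfsg.Agent.H529.MSev.T5941
import Cfsg.Agent.H210.TC.Row
import Cfsg.Agent.H210.TC.Ly
import Cfsg.Agent.H606.OreM.Vals

/-!
# S2452, row M: the cube of the class of elements of order 59 (helper529)

* `prd_59` : `a`, `a'` of order 59, `|C(g)| ≤ 59`: `g` is a product of a conjugate of `a` and a conjugate of `a'`;
* `row3_MG` : the pair (59, 41) gives `Row3`.
-/

set_option autoImplicit false
set_option maxRecDepth 100000

namespace Cfsg.Agent.H529.MSev.Cube59

open Cfsg Subgroup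
open Cfsg.Agent.BpSpor.MBigModel
open Cfsg.Agent.H995.CopEngine (AllKnown)
open Cfsg.Agent.H715.Mon.Grp (SThree)
open Cfsg.Agent.Characters.Core
open Cfsg.Agent.H65.Ore (Prd)
open Cfsg.Agent.H529.MSev.T5941 (card_MG cent_59 cent_41 not_comm)

theorem prd_59 (hK : AllKnown.{0}) {a a' : MG} (ha : orderOf a = 59) (ha' : orderOf a' = 59) {g : MG}
    (hg : Nat.card (centralizer ({g} : Set MG)) ≤ 59) : Prd a a' g := by
  have hsim : IsSimpleGroup MG := BpSpor.MBigModel.simple
  have hfin : Finite MG := finite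
  have p59 : Nat.Prime 59 := by norm_num
  have c59 := cent_59 hK ha
  have hna := not_comm (by norm_num) c59
  obtain ⟨NE', X', hD'⟩ := H65.Ore.exists_dat hna p59 card_MG ha c59 29 2 (59 ^ 4) (by decide +kernel)
  have hle : ∀ χ : IrrCharacter MG, ‖(χ : MG → ℂ) a‖ ^ 2 ≤ ((30 : ℕ) : ℝ) := by
    intro χ
    have h1 := H529.Inv.Pair.sq_le_of_dat hD' (by norm_num) ha χ
    norm_num at h1 ⊢
    exact h1
  exact H529.Inv.Pair.prd_pair (mx := 30) (cy := 59) (c := 59) (d := 196883) hle (cent_59 hK ha').le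
    (fun χ h1 _ _ => H606.OreM.min_deg χ h1) hg (by norm_num)

/-- **The row from the pair (59, 41).** -/
theorem row3_MG (hK : AllKnown.{0}) (hS : SThree.{0}) {a b : MG} (ha : orderOf a = 59) (hb : orderOf b = 41)
    (h : ∀ g : MG, g ≠ 1 → Prd a b g) : H210.TC.Row3 MG := by
  refine H210.TC.Row3.of_pair (x := a) (y := b) (by rw [ha]; norm_num) (by rw [ha]; norm_num) (by rw [hb]; norm_num)
    (by rw [hb]; norm_num) (fun g hg => h g hg) ?_ ?_
  · exact prd_59 hK ha ha (by rw [cent_41 hK hS hb]; norm_num)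
  · exact prd_59 hK ha ha (by rw [cent_59 hK (by rw [orderOf_inv, ha])])

end Cfsg.Agent.H529.MSev.Cube59
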