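import Cfsg.Agent.H715.Mon.Norm
import Cfsg.Agent.H728.Four.Val
import Cfsg.Agent.H593.IMMonC
import Cfsg.Agent.H860.I4.Proj
import Cfsg.Agent.S0241

/-!
# S4171, row M: the coset `u H`, `u` of order 19, `H ≤ A₅` of order 12 (helper529, projection of helper569)

* `K ≅ A₅`, `H ≤ K` of order 12, `n_θ = ⟨θ|_H, 1⟩`: `n_θ ≠ 0` only for `θ = 1` and a character `θ` of degree 4 with `θ(k) ≠ 0`,
  `k` of order 3, and `n_θ = 1` there (`mult`);
* `C(u) = ⟨u⟩ × K`: the mean of `χ` on `u H` is `part 1 χ u + part θ₄ χ u` (`mean_eq`);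
* `exists_data` : the Monster.
-/

set_option autoImplicit false
set_option maxRecDepth 100000

namespace Cfsg.Agent.H529.MSev.L19

open Cfsg Subgroup
open Cfsg.Agent.Characters Cfsg.Agent.Characters.Core
open Cfsg.Agent.SmallSimple.ThetaSetup Cfsg.Agent.SmallSimple.ThetaOrtho
open Cfsg.Agent.SmallSimple.TheoremC Cfsg.Agent.SmallSimple.TheoremCCor
open Cfsg.Agent.H65.Ore (Prd one1 one1_apply)
open Cfsg.Agent.H854.Ore (SR)
open Cfsg.Agent.H777.Ore (I4)
open scoped ComplexConjugate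

universe u

/-! ### `A₅` -/

section alt

abbrev A5 : Type := alternatingGroup (Fin 5)

/-- an involution and an element of order 3 -/
def a2 : A5 := ⟨Equiv.swap 0 1 * Equiv.swap 2 3, by rw [Equiv.Perm.mem_alternatingGroup]; decide⟩
def a3 : A5 := ⟨Equiv.swap 0 1 * Equiv.swap 1 2, by rw [Equiv.Perm.mem_alternatingGroup]; decide⟩

theorem a3_three : a3 * a3 * a3 = 1 ∧ a3 ≠ 1 := by decide +kernel

theorem conj2 : ∀ b : A5, b * b = 1 → b ≠ 1 → ∃ c : A5, c * a2 * c⁻¹ = b := by decide +kernel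

theorem conj3 : ∀ b : A5, b * b * b = 1 → b ≠ 1 → ∃ c : A5, c * a3 * c⁻¹ = b := by decide +kernel

theorem cent3 : ∀ c : A5, c * a3 = a3 * c → c = 1 ∨ c = a3 ∨ c = a3 * a3 := by decide +kernel

theorem ord : ∀ c : A5, c = 1 ∨ c * c = 1 ∨ c * c * c = 1 ∨ c ^ 5 = 1 := by decide +kernel

theorem card_inv : Fintype.card {c : A5 // c * c = 1 ∧ c ≠ 1} = 15 := by decide +kernel

theorem card_H : Nat.card (MulAction.stabilizer A5 (0 : Fin 5)) = 12 := by
  rw [Nat.card_eq_fintype_card]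
  decide +kernel

end alt

/-! ### Groups isomorphic to `A₅` -/

section K

variable {K : Type u} [Group K] [Finite K] (e : K ≃* A5)

include e

omit [Finite K] in
theorem commK : commutator K = ⊤ := by
  have h1 : commutator A5 = ⊤ := commutator_alternatingGroup_eq_top (by simp)
  rw [eq_top_iff]
  intro k _
  have h2 : e k ∈ commutator A5 := by rw [h1]; trivial
  have h3 : (commutator K).map (e : K →* A5) = commutator A5 := by
    rw [commutator_def, Subgroup.map_commutator, commutator_def]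
    congr 1 <;> exact Subgroup.map_top_of_surjective _ e.surjective
  rw [← h3] at h2
  obtain ⟨k', hk', h4⟩ := h2
  have h5 : k' = k := e.injective h4
  rw [← h5]; exact hk'

omit [Finite K] in
theorem conj2K {a b : K} (ha : a * a = 1) (ha1 : a ≠ 1) (hb : b * b = 1) (hb1 : b ≠ 1) : IsConj a b := by
  obtain ⟨c, hc⟩ := conj2 (e a) (by rw [← map_mul, ha, map_one]) (by simpa using ha1)
  obtain ⟨d, hd⟩ := conj2 (e b) (by rw [← map_mul, hb, map_one]) (by simpa using hb1)
  rw [isConj_iff]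
  refine ⟨e.symm (d * c⁻¹), e.injective ?_⟩
  rw [map_mul, map_mul, map_inv, e.apply_symm_apply, ← hc, ← hd]
  group

omit [Finite K] in
theorem conj3K {a b : K} (ha : orderOf a = 3) (hb : orderOf b = 3) : IsConj a b := by
  have key : ∀ a : K, orderOf a = 3 → ∃ c : A5, c * a3 * c⁻¹ = e a := by
    intro a ha
    have h3 : a * a * a = 1 := by
      have := pow_orderOf_eq_one a
      rw [ha, pow_succ, pow_two] at this
      exact this
    refine conj3 (e a) (by rw [← map_mul, ← map_mul, h3, map_one]) ?_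
    intro h
    have h4 : a = 1 := e.injective (by rw [h, map_one])
    rw [h4, orderOf_one] at ha
    norm_num at ha
  obtain ⟨c, hc⟩ := key a ha
  obtain ⟨d, hd⟩ := key b hb
  rw [isConj_iff]
  refine ⟨e.symm (d * c⁻¹), e.injective ?_⟩
  rw [map_mul, map_mul, map_inv, e.apply_symm_apply, ← hc, ← hd]
  group

/-- the centralizer of an element of order 3 -/
theorem cent3K {k : K} (hk : orderOf k = 3) : Nat.card (centralizer ({k} : Set K)) = 3 := by
  have ho : orderOf a3 = 3 := by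
    have : Fact (Nat.Prime 3) := ⟨Nat.prime_three⟩
    refine orderOf_eq_prime ?_ a3_three.2
    rw [pow_succ, pow_two]; exact a3_three.1
  obtain ⟨c, hc⟩ := isConj_iff.1 (conj3K e (a := e.symm a3) (b := k) (by rw [MulEquiv.orderOf_eq, ho]) hk)
  have h1 : Nat.card (centralizer ({e.symm a3} : Set K)) = Nat.card (centralizer ({k} : Set K)) := by
    rw [← hc, ← MulAut.conj_apply, H630.NH.centralizer_map_equiv (MulAut.conj c),
      card_map_of_injective (MulAut.conj c).injective]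
  rw [← h1]
  classical
  refine le_antisymm ?_ ?_
  · have h2 : (centralizer ({e.symm a3} : Set K) : Set K) ⊆ (({1, e.symm a3, e.symm (a3 * a3)} : Finset K) : Set K) := by
      intro x hx
      have h3 : x * e.symm a3 = e.symm a3 * x := mem_centralizer_singleton_iff.1 hx
      have h4 : e x * a3 = a3 * e x := by
        have := congrArg e h3
        rwa [map_mul, map_mul, e.apply_symm_apply] at this
      simp only [Finset.coe_insert, Finset.coe_singleton, Set.mem_insert_iff, Set.mem_singleton_iff]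
      rcases cent3 _ h4 with h | h | h
      · left; exact e.injective (by rw [h, map_one])
      · right; left; exact e.injective (by rw [h, e.apply_symm_apply])
      · right; right; exact e.injective (by rw [h, e.apply_symm_apply])
    have h3 := Nat.card_mono (Finset.finite_toSet _) h2
    refine h3.trans ?_
    rw [Nat.card_coe_set_eq, Set.ncard_coe_finset]
    exact Finset.card_le_three
  · have h2 : 3 ∣ Nat.card (centralizer ({e.symm a3} : Set K)) := by
      have h3 : orderOf (e.symm a3) = 3 := by rw [MulEquiv.orderOf_eq, ho]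
      rw [← h3, ← Subgroup.orderOf_mk (e.symm a3) (mem_centralizer_singleton_iff.2 rfl)]
      exact orderOf_dvd_natCard _
    exact Nat.le_of_dvd Nat.card_pos h2

omit [Finite K] in
theorem card_invK : Nat.card {c : K // c * c = 1 ∧ c ≠ 1} = 15 := by
  rw [← card_inv, ← Nat.card_eq_fintype_card]
  refine Nat.card_congr (e.toEquiv.subtypeEquiv fun c => ?_)
  show c * c = 1 ∧ c ≠ 1 ↔ e c * e c = 1 ∧ e c ≠ 1
  rw [← map_mul, ne_eq, ne_eq, MulEquiv.map_eq_one_iff, MulEquiv.map_eq_one_iff]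

omit [Finite K] in
/-- the orders of the elements of a subgroup of order 12 -/
theorem ordK {H : Subgroup K} (hH : Nat.card H = 12) {v : K} (hv : v ∈ H) : v = 1 ∨ orderOf v = 2 ∨ orderOf v = 3 := by
  have h12 : orderOf v ∣ 12 := by
    rw [← hH, ← Subgroup.orderOf_mk v hv]
    exact orderOf_dvd_natCard _
  by_cases h1 : v = 1
  · exact Or.inl h1
  right
  rcases ord (e v) with h | h | h | h
  · exact absurd (e.injective (by rw [h, map_one])) h1
  · left
    have : Fact (Nat.Prime 2) := ⟨Nat.prime_two⟩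
    exact orderOf_eq_prime (by rw [pow_two]; exact e.injective (by rw [map_mul, h, map_one])) h1
  · right
    have : Fact (Nat.Prime 3) := ⟨Nat.prime_three⟩
    exact orderOf_eq_prime (by rw [pow_succ, pow_two]; exact e.injective (by rw [map_mul, map_mul, h, map_one])) h1
  · exfalso
    have h2 : orderOf v ∣ 5 := orderOf_dvd_of_pow_eq_one (e.injective (by rw [map_pow, h, map_one]))
    have h3 := Nat.dvd_gcd h12 h2
    norm_num at h3
    exact h1 h3

omit [Finite K] in
theorem exists_H : ∃ H : Subgroup K, Nat.card H = 12 := by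
  refine ⟨(MulAction.stabilizer A5 (0 : Fin 5)).map (e.symm : A5 →* K), ?_⟩
  rw [card_map_of_injective e.symm.injective, card_H]

omit [Finite K] in
theorem cardK : Nat.card K = 60 := by
  rw [Nat.card_congr e.toEquiv, SmallSimple.PSLFacts.card_alt_five]

end K

/-! ### The multiplicities -/

section mult

variable {K : Type u} [Group K] [Finite K]

omit [Finite K] in
/-- a perfect group has no linear characters -/
theorem eq_one_of_deg (hcom : commutator K = ⊤) {θ : IrrCharacter K} (hd : charDegree (θ : K → ℂ) = 1) :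
    θ = one1 K := by
  have hn1 : (θ : K → ℂ) 1 = 1 := by rw [← H686.CharKit.charDegree_irr θ, hd, Nat.cast_one]
  obtain ⟨f, hf⟩ := Cfsg.Agent.Characters.Linear.exists_hom_of_isIrrCharacter θ.2 hn1
  apply Subtype.ext
  funext g
  rw [one1_apply, hf]
  show ((f g : ℂˣ) : ℂ) = 1
  have h3 : f.ker = ⊤ := by
    rw [eq_top_iff, ← hcom]
    exact Abelianization.commutator_subset_ker f
  have h4 : f g = 1 := by
    have : g ∈ f.ker := by rw [h3]; exact mem_top g
    exact this
  rw [h4]; rfl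

/-- the multiplicities of the trivial character of `H` -/
theorem exists_mult [Fintype (IrrCharacter K)] (H : Subgroup K) [Fintype H] : ∃ m : IrrCharacter K → ℕ,
    (∀ θ : IrrCharacter K, ∑ v : H, (θ : K → ℂ) v = m θ * (Nat.card H : ℂ)) ∧ m (one1 K) = 1 ∧
      (∑ θ, m θ * charDegree (θ : K → ℂ)) * Nat.card H = Nat.card K := by
  classical
  choose m hm using fun θ : IrrCharacter K => SmallSimple.TheoremBCor.exists_sum_eq (isIrr_isCharacter θ.2) H
  have hH0 : (Nat.card H : ℂ) ≠ 0 := by exact_mod_cast Nat.card_pos.ne'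
  refine ⟨m, hm, ?_, ?_⟩
  · have h := hm (one1 K)
    simp only [one1_apply, Finset.sum_const, Finset.card_univ, ← Nat.card_eq_fintype_card, nsmul_eq_mul, mul_one] at h
    have h1 : (m (one1 K) : ℂ) = 1 := mul_right_cancel₀ hH0 (by rw [one_mul, ← h])
    exact_mod_cast h1
  · have h2 : ∑ θ : IrrCharacter K, ((m θ * (Nat.card H : ℂ)) * (charDegree (θ : K → ℂ) : ℂ)) = Nat.card K := by
      have e1 : ∀ θ : IrrCharacter K, ((m θ * (Nat.card H : ℂ)) * (charDegree (θ : K → ℂ) : ℂ)) =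
          ∑ v : H, (θ : K → ℂ) v * conj ((θ : K → ℂ) 1) := by
        intro θ
        rw [← hm θ, Finset.sum_mul, ← H686.CharKit.charDegree_irr θ]
        simp
      rw [Finset.sum_congr rfl fun θ _ => e1 θ, Finset.sum_comm]
      rw [Finset.sum_eq_single (1 : H)]
      · have h3 := H686.CharKit.col_orth (1 : K) 1
        rw [if_pos (IsConj.refl _)] at h3
        have h4 : Nat.card (centralizer ({(1 : K)} : Set K)) = Nat.card K := by
          have : centralizer ({(1 : K)} : Set K) = ⊤ := by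
            rw [eq_top_iff]
            intro x _
            rw [mem_centralizer_singleton_iff]; simp
          rw [this, Subgroup.card_top]
        rw [h4] at h3
        exact h3
      · intro v _ hv
        have h3 := H686.CharKit.col_orth (v : K) 1
        rw [if_neg (fun h => hv (Subtype.ext (by
          obtain ⟨c, hc⟩ := isConj_iff.1 h
          rwa [conj_eq_one_iff] at hc)))] at h3
        exact h3
      · intro h; exact absurd (Finset.mem_univ _) h
    have h3 : (((∑ θ, m θ * charDegree (θ : K → ℂ)) * Nat.card H : ℕ) : ℂ) = (Nat.card K : ℂ) := by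
      rw [← h2]
      push_cast
      rw [Finset.sum_mul]
      exact Finset.sum_congr rfl fun θ _ => by ring
    exact_mod_cast h3

/-- the value at an element of order 3 modulo 3 -/
theorem dvd_three {k : K} (hk : orderOf k = 3) (hr : IsConj k k⁻¹) (θ : IrrCharacter K) {z : ℤ}
    (hz : (θ : K → ℂ) k = z) : (3 : ℤ) ∣ charDegree (θ : K → ℂ) + 2 * z := by
  classical
  have := Fintype.ofFinite (zpowers k)
  obtain ⟨m, hm⟩ := SmallSimple.TheoremBCor.exists_sum_eq (isIrr_isCharacter θ.2) (zpowers k)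
  have h3 : Nat.card (zpowers k) = 3 := by rw [Nat.card_zpowers, hk]
  have hk3 : k ^ 3 = 1 := by rw [← hk, pow_orderOf_eq_one]
  have hkk : (θ : K → ℂ) k⁻¹ = z := by
    obtain ⟨c, hc⟩ := isConj_iff.1 hr
    rw [← hc, isIrr_isClassFunction θ.2, hz]
  have hv : ∀ x : zpowers k, x ≠ 1 → (θ : K → ℂ) x = z := by
    rintro ⟨x, hx⟩ hx1
    obtain ⟨n, hn, hnx⟩ := (mem_zpowers_iff_mem_range_orderOf).1 hx |> Finset.mem_image.1
    rw [hk, Finset.mem_range] at hn
    subst hnx
    interval_cases n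
    · exact absurd (Subtype.ext (pow_zero k)) hx1
    · show (θ : K → ℂ) (k ^ 1) = z
      rw [pow_one, hz]
    · show (θ : K → ℂ) (k ^ 2) = z
      have : k ^ 2 = k⁻¹ := by
        rw [eq_inv_iff_mul_eq_one, ← pow_succ]; exact hk3
      rw [this, hkk]
  rw [SmallSimple.TheoremBCor.sum_const_off (c := (z : ℂ)) hv, h3] at hm
  refine ⟨m, ?_⟩
  have h4 : (((charDegree (θ : K → ℂ) : ℤ) + 2 * z : ℤ) : ℂ) = ((3 * m : ℤ) : ℂ) := by
    have h5 : (θ : K → ℂ) ((1 : zpowers k) : K) = (charDegree (θ : K → ℂ) : ℂ) := by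
      rw [Subgroup.coe_one, H686.CharKit.charDegree_irr θ]
    rw [h5] at hm
    push_cast at hm ⊢
    linear_combination hm
  exact_mod_cast h4

/-- **The third character** not vanishing at a real self-centralizing element of order 3. -/
theorem exists_third [Fintype (IrrCharacter K)] {k : K} (hk : orderOf k = 3)
    (hc : Nat.card (centralizer ({k} : Set K)) = 3) (hr : IsConj k k⁻¹) {θ : IrrCharacter K} (h1 : θ ≠ one1 K)
    (h0 : (θ : K → ℂ) k ≠ 0) : ∃ (z z' : ℤ) (θ' : IrrCharacter K), θ' ≠ one1 K ∧ (θ : K → ℂ) k = z ∧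
      (z = 1 ∨ z = -1) ∧ (z' = 1 ∨ z' = -1) ∧
      1 + z * charDegree (θ : K → ℂ) + z' * charDegree (θ' : K → ℂ) = 0 := by
  classical
  obtain ⟨f, hf, f1, h2, h3⟩ := H728.Four.Val.exists_val hk hc hr
  have hd1 : charDegree (one1 K : K → ℂ) = 1 := by
    rw [H686.CharKit.charDegree_eq_one_iff]
    exact one1_apply 1
  have hf0 : f θ ≠ 0 := fun h => h0 (by rw [hf, h, Int.cast_zero])
  obtain ⟨θ', h1', hne, hf0'⟩ : ∃ θ' : IrrCharacter K, θ' ≠ one1 K ∧ θ' ≠ θ ∧ f θ' ≠ 0 := by
    by_contra hcon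
    push Not at hcon
    have h4 : ∑ x, f x ^ 2 = f (one1 K) ^ 2 + f θ ^ 2 := by
      rw [← Finset.sum_pair (f := fun x => f x ^ 2) (Ne.symm h1)]
      symm
      refine Finset.sum_subset (Finset.subset_univ _) fun x _ hx => ?_
      simp only [Finset.mem_insert, Finset.mem_singleton, not_or] at hx
      rw [hcon x hx.1 hx.2]; rfl
    rw [h2, f1] at h4
    have h6 : |f θ| ≤ 1 := by
      rw [abs_le]; constructor <;> nlinarith
    have h7 := abs_le.1 h6
    obtain ⟨h8, h9⟩ := h7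
    interval_cases (f θ) <;> omega
  set s : Finset (IrrCharacter K) := {one1 K, θ, θ'} with hs
  have hsum : ∀ g : IrrCharacter K → ℤ, ∑ x ∈ s, g x = g (one1 K) + (g θ + g θ') := by
    intro g
    rw [hs, Finset.sum_insert (by simp [Ne.symm h1, Ne.symm h1']), Finset.sum_pair (Ne.symm hne)]
  have hsplit : ∀ g : IrrCharacter K → ℤ, ∑ x, g x = ∑ x ∈ s, g x + ∑ x ∈ sᶜ, g x := fun g =>
    (Finset.sum_add_sum_compl s g).symm
  have h4 := h2
  rw [hsplit, hsum, f1] at h4
  have h5 : 0 ≤ ∑ x ∈ sᶜ, f x ^ 2 := Finset.sum_nonneg fun _ _ => sq_nonneg _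
  have h6 : 1 ≤ f θ ^ 2 := by
    have := sq_nonneg (f θ)
    have h7 : f θ ^ 2 ≠ 0 := pow_ne_zero 2 hf0
    omega
  have h6' : 1 ≤ f θ' ^ 2 := by
    have := sq_nonneg (f θ')
    have h7 : f θ' ^ 2 ≠ 0 := pow_ne_zero 2 hf0'
    omega
  have h7 : ∑ x ∈ sᶜ, f x ^ 2 = 0 := by omega
  have h8 : ∀ x ∈ sᶜ, f x = 0 := by
    intro x hx
    have := (Finset.sum_eq_zero_iff_of_nonneg fun _ _ => sq_nonneg _).1 h7 x hx
    exact pow_eq_zero_iff (two_ne_zero) |>.1 this
  have g1 : f θ = 1 ∨ f θ = -1 := by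
    have h9 : f θ ^ 2 = 1 := by omega
    exact sq_eq_one_iff.1 h9
  have g2 : f θ' = 1 ∨ f θ' = -1 := by
    have h9 : f θ' ^ 2 = 1 := by omega
    exact sq_eq_one_iff.1 h9
  rw [hsplit, hsum, f1, Finset.sum_eq_zero fun x hx => by rw [h8 x hx, zero_mul], hd1] at h3
  push_cast at h3
  exact ⟨f θ, f θ', θ', h1', hf θ, g1, g2, by linarith⟩

/-- **The multiplicities of the trivial character of a subgroup of index 5.** -/
theorem mult (hcom : commutator K = ⊤) (h60 : Nat.card K = 60) {k : K} (hk : orderOf k = 3)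
    (hc : Nat.card (centralizer ({k} : Set K)) = 3) (hr : IsConj k k⁻¹) {H : Subgroup K} [Fintype H]
    (h12 : Nat.card H = 12) : ∃ θ₄ : IrrCharacter K, θ₄ ≠ one1 K ∧ charDegree (θ₄ : K → ℂ) = 4 ∧
      (θ₄ : K → ℂ) k ≠ 0 ∧ ∑ v : H, (one1 K : K → ℂ) v = 12 ∧ ∑ v : H, (θ₄ : K → ℂ) v = 12 ∧
      ∀ θ : IrrCharacter K, θ ≠ one1 K → θ ≠ θ₄ → ∑ v : H, (θ : K → ℂ) v = 0 := by
  classical
  have : Finite (IrrCharacter K) := finite_irr
  have := Fintype.ofFinite (IrrCharacter K)
  obtain ⟨m, hm, hm1, hsum⟩ := exists_mult H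
  rw [h60, h12] at hsum
  simp only [h12] at hm
  have h5 : ∑ θ, m θ * charDegree (θ : K → ℂ) = 5 := by omega
  have hd1 : charDegree (one1 K : K → ℂ) = 1 := by
    rw [H686.CharKit.charDegree_eq_one_iff]
    exact one1_apply 1
  rw [← Finset.add_sum_erase _ _ (Finset.mem_univ (one1 K)), hm1, hd1] at h5
  have h4 : ∑ θ ∈ Finset.univ.erase (one1 K), m θ * charDegree (θ : K → ℂ) = 4 := by omega
  -- the degrees
  have hdeg : ∀ θ : IrrCharacter K, θ ≠ one1 K → m θ ≠ 0 → charDegree (θ : K → ℂ) = 4 ∧ m θ = 1 ∧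
      ∀ θ' : IrrCharacter K, θ' ≠ one1 K → θ' ≠ θ → m θ' = 0 := by
    intro θ h1 hmθ
    have hge : ∀ θ : IrrCharacter K, θ ≠ one1 K → 2 ≤ charDegree (θ : K → ℂ) := by
      intro θ h1
      have h6 := H686.CharKit.charDegree_pos θ
      by_contra h7
      exact h1 (eq_one_of_deg hcom (by omega))
    have hmem : θ ∈ Finset.univ.erase (one1 K) := Finset.mem_erase.2 ⟨h1, Finset.mem_univ _⟩
    rw [← Finset.add_sum_erase _ _ hmem] at h4
    have h6 := hge θ h1
    have h7 : charDegree (θ : K → ℂ) ≤ 4 := by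
      have : 1 * charDegree (θ : K → ℂ) ≤ m θ * charDegree (θ : K → ℂ) := Nat.mul_le_mul_right _ (by omega)
      omega
    have h2ne : charDegree (θ : K → ℂ) ≠ 2 := by
      intro h2
      obtain ⟨z, hz⟩ := H728.Four.Val.int_three hk hr θ
      have h8 := dvd_three hk hr θ hz
      rw [h2] at h8
      have hz0 : (θ : K → ℂ) k ≠ 0 := by
        intro h9
        have h10 : z = 0 := by rw [hz] at h9; exact_mod_cast h9
        rw [h10] at h8
        norm_num at h8
      obtain ⟨z1, z', θ', h1', hz1, hz1', hz2, h9⟩ := exists_third hk hc hr h1 hz0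
      have h10 : z1 = z := by rw [hz] at hz1; exact_mod_cast hz1.symm
      rw [h10] at hz1' h9
      rw [h2] at h9
      have h11 := hge θ' h1'
      push_cast at h8 h9
      rcases hz1' with h12 | h12 <;> rcases hz2 with h13 | h13 <;> rw [h12, h13] at h9 <;> rw [h12] at h8
      · omega
      · omega
      · omega
      · omega
    have h3ne : charDegree (θ : K → ℂ) ≠ 3 := by
      intro h2
      rw [h2] at h4
      have h8 : m θ = 1 := by omega
      rw [h8] at h4
      have h9 : ∑ θ' ∈ (Finset.univ.erase (one1 K)).erase θ, m θ' * charDegree (θ' : K → ℂ) = 1 := by omega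
      obtain ⟨θ', hθ', h10⟩ := Finset.exists_ne_zero_of_sum_ne_zero (by rw [h9]; norm_num :
        ∑ θ' ∈ (Finset.univ.erase (one1 K)).erase θ, m θ' * charDegree (θ' : K → ℂ) ≠ 0)
      have h11 : m θ' * charDegree (θ' : K → ℂ) ≤ 1 := by
        rw [← h9]
        exact Finset.single_le_sum (f := fun θ' : IrrCharacter K => m θ' * charDegree (θ' : K → ℂ))
          (fun _ _ => Nat.zero_le _) hθ'
      have h12 := hge θ' (Finset.mem_erase.1 (Finset.mem_erase.1 hθ').2).1
      have h13 : m θ' ≠ 0 := left_ne_zero_of_mul h10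
      have : 1 * charDegree (θ' : K → ℂ) ≤ m θ' * charDegree (θ' : K → ℂ) := Nat.mul_le_mul_right _ (by omega)
      omega
    have h8 : charDegree (θ : K → ℂ) = 4 := by omega
    rw [h8] at h4
    refine ⟨h8, by omega, fun θ' h1' hne => ?_⟩
    have h9 : ∑ θ' ∈ (Finset.univ.erase (one1 K)).erase θ, m θ' * charDegree (θ' : K → ℂ) = 0 := by omega
    have h10 := (Finset.sum_eq_zero_iff.1 h9) θ' (Finset.mem_erase.2 ⟨hne, Finset.mem_erase.2 ⟨h1', Finset.mem_univ _⟩⟩)
    rcases Nat.mul_eq_zero.1 h10 with h11 | h11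
    · exact h11
    · have := H686.CharKit.charDegree_pos θ'
      omega
  obtain ⟨θ₄, hθ₄, h6⟩ := Finset.exists_ne_zero_of_sum_ne_zero (by rw [h4]; norm_num :
        ∑ θ ∈ Finset.univ.erase (one1 K), m θ * charDegree (θ : K → ℂ) ≠ 0)
  have h1 := (Finset.mem_erase.1 hθ₄).1
  obtain ⟨h7, h8, h9⟩ := hdeg θ₄ h1 (left_ne_zero_of_mul h6)
  refine ⟨θ₄, h1, h7, ?_, ?_, ?_, ?_⟩
  · obtain ⟨z, hz⟩ := H728.Four.Val.int_three hk hr θ₄
    have h10 := dvd_three hk hr θ₄ hz
    rw [h7] at h10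
    intro h11
    have h12 : z = 0 := by rw [hz] at h11; exact_mod_cast h11
    rw [h12] at h10
    norm_num at h10
  · rw [hm, hm1]; norm_num
  · rw [hm, h8]; norm_num
  · intro θ hθ1 hθ4
    rw [hm, h9 θ hθ1 hθ4]; norm_num

end mult

/-! ### The mean on a coset -/

section mean

variable {G : Type u} [Group G] [Finite G] {p : ℕ} [hp : Fact p.Prime] {P : Sylow p G} {K : Subgroup G}

/-- the mean on `u H` -/
theorem mean_eq (hK : IsComp p (P : Subgroup G) K) {H : Subgroup K} [Fintype H] {θ₄ : IrrCharacter K}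
    (h4 : θ₄ ≠ one1 K) (s1 : ∑ v : H, (one1 K : K → ℂ) v = 12) (s4 : ∑ v : H, (θ₄ : K → ℂ) v = 12)
    (s0 : ∀ θ : IrrCharacter K, θ ≠ one1 K → θ ≠ θ₄ → ∑ v : H, (θ : K → ℂ) v = 0) (χ : IrrCharacter G) {u : P} :
    ∑ v : H, (12 : ℂ)⁻¹ * (χ : G → ℂ) (u * ((v : K) : G)) =
      part (one1 K : K → ℂ) (χ : G → ℂ) u + part (θ₄ : K → ℂ) (χ : G → ℂ) u := by
  classical
  have : Finite (IrrCharacter K) := finite_irr
  have := Fintype.ofFinite (IrrCharacter K)
  have e1 : ∀ v : H, (χ : G → ℂ) (u * ((v : K) : G)) =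
      ∑ θ : IrrCharacter K, part (θ : K → ℂ) (χ : G → ℂ) u * (θ : K → ℂ) v := fun v =>
    sum_part (isIrr_isClassFunction χ.2) (fun y hy => hK.comm u.2 hy) v
  rw [← Finset.mul_sum, Finset.sum_congr rfl fun v _ => e1 v, Finset.sum_comm]
  have e2 : ∀ θ : IrrCharacter K, ∑ v : H, part (θ : K → ℂ) (χ : G → ℂ) u * (θ : K → ℂ) v =
      part (θ : K → ℂ) (χ : G → ℂ) u * ∑ v : H, (θ : K → ℂ) v := fun θ => (Finset.mul_sum _ _ _).symm
  rw [Finset.sum_congr rfl fun θ _ => e2 θ, ← Finset.sum_subset (Finset.subset_univ {one1 K, θ₄})]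
  · rw [Finset.sum_pair (Ne.symm h4), s1, s4]
    ring
  · intro θ _ hθ
    simp only [Finset.mem_insert, Finset.mem_singleton, not_or] at hθ
    rw [s0 θ hθ.1 hθ.2, mul_zero]

end mean

/-! ### The projection -/

section proj

variable {G : Type u} [Group G] [Finite G] {p : ℕ} [hp : Fact p.Prime] {P : Sylow p G} {K : Subgroup G}

/-- the residues of the degrees of the characters over a stable character -/
theorem mod_of_over (hK : IsComp p (P : Subgroup G) K) (hP : Nat.card P = p)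
    (he : (centralizer ((P : Subgroup G) : Set G)).relIndex (normalizer ((P : Subgroup G) : Set G)) = p - 1)
    {θ : IrrCharacter K} (hst : ∀ n ∈ normalizer ((P : Subgroup G) : Set G), tw (θ : K → ℂ) n = θ) {a : ℕ}
    (ha : charDegree (θ : K → ℂ) = a) (ha0 : 0 < a) (hap : a < p) {χ : IrrCharacter G} (hθ : χ ∈ Over P (θ : K → ℂ)) :
    charDegree (χ : G → ℂ) % p = a ∨ charDegree (χ : G → ℂ) % p = p - a := by
  classical
  obtain ⟨s, hs, h1⟩ := H529.Inv.Pair.deg_of_over hK hP he (mul_one (p - 1)) θ hθ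
  rw [orb_of_stable θ.2 hst, Finset.card_singleton, ha] at h1
  have hp1 : 1 ≤ p := hp.out.one_lt.le
  have e1 : ∀ d : ℕ, (p : ℤ) ∣ (d : ℤ) - a → d % p = a := fun d hd => by
    rw [H529.Inv.Pair.mod_of_dvd_sub' (a := a) (by rwa [one_mul]), Nat.mod_eq_of_lt hap]
  have e2 : ∀ d : ℕ, (p : ℤ) ∣ (d : ℤ) + a → d % p = p - a := fun d hd => by
    rw [H529.Inv.Pair.mod_of_dvd_sub'' (a := a) (by rwa [neg_one_mul, sub_neg_eq_add]), Nat.mod_eq_of_lt hap,
      Nat.mod_eq_of_lt (by omega)]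
  rcases h1 with h1 | h1 <;> rcases hs with rfl | rfl
  · left
    refine e1 _ ?_
    have : (charDegree (χ : G → ℂ) : ℤ) - a = charDegree (χ : G → ℂ) - 1 * (((1 : ℕ) : ℤ) * a) := by push_cast; ring
    rw [this]; exact h1
  · right
    refine e2 _ ?_
    have : (charDegree (χ : G → ℂ) : ℤ) + a = charDegree (χ : G → ℂ) - (-1) * (((1 : ℕ) : ℤ) * a) := by push_cast; ring
    rw [this]; exact h1
  · right
    refine e2 _ ?_
    have : (charDegree (χ : G → ℂ) : ℤ) + a =
        (charDegree (χ : G → ℂ) - 1 * (((p - 1 : ℕ) : ℤ) * a)) + p * a := by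
      rw [Nat.cast_sub hp1]; push_cast; ring
    rw [this]
    exact dvd_add h1 (Dvd.intro _ rfl)
  · left
    refine e1 _ ?_
    have : (charDegree (χ : G → ℂ) : ℤ) - a =
        (charDegree (χ : G → ℂ) - (-1) * (((p - 1 : ℕ) : ℤ) * a)) - p * a := by
      rw [Nat.cast_sub hp1]; push_cast; ring
    rw [this]
    exact dvd_sub h1 (Dvd.intro _ rfl)

/-- **The projection.** -/
theorem exists_proj (hK : IsComp p (P : Subgroup G) K) (hP : Nat.card P = p)
    (he : (centralizer ((P : Subgroup G) : Set G)).relIndex (normalizer ((P : Subgroup G) : Set G)) = p - 1)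
    (hp4 : 4 < p) (e : K ≃* A5) [Fintype (IrrCharacter G)] : ∃ (H : Subgroup K) (_ : Fintype H), Nat.card H = 12 ∧
      ∀ u : P, u ≠ 1 → (∀ χ : IrrCharacter G, ∑ v : H, (12 : ℂ)⁻¹ * (χ : G → ℂ) (u * ((v : K) : G)) ≠ 0 →
        charDegree (χ : G → ℂ) % p ∈ [1, 4, p - 4, p - 1]) ∧
        ∑ χ : IrrCharacter G, ‖∑ v : H, (12 : ℂ)⁻¹ * (χ : G → ℂ) (u * ((v : K) : G))‖ ^ 2 = (2 * p : ℝ) := by
  classical
  obtain ⟨H, h12⟩ := exists_H e
  let iH : Fintype H := Fintype.ofFinite H
  have ho : orderOf a3 = 3 := by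
    have : Fact (Nat.Prime 3) := ⟨Nat.prime_three⟩
    refine orderOf_eq_prime ?_ a3_three.2
    rw [pow_succ, pow_two]; exact a3_three.1
  have hk : orderOf (e.symm a3) = 3 := by rw [MulEquiv.orderOf_eq, ho]
  have hc := cent3K e hk
  have hr : IsConj (e.symm a3) (e.symm a3)⁻¹ := conj3K e hk (by rw [orderOf_inv, hk])
  have hone : ∀ k' : K, orderOf k' = 3 → IsConj k' (e.symm a3) := fun k' hk' => conj3K e hk' hk
  obtain ⟨θ₄, h4, hd4, hv4, s1, s4, s0⟩ := mult (commK e) (cardK e) hk hc hr h12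
  have hd1 : charDegree (one1 K : K → ℂ) = 1 := by
    rw [H686.CharKit.charDegree_eq_one_iff]
    exact one1_apply 1
  have st1 : ∀ n ∈ normalizer ((P : Subgroup G) : Set G), tw (one1 K : K → ℂ) n = (one1 K : K → ℂ) :=
    fun n hn => H728.Four.Val.stable hK hk hc hr hone (one1 K) (by rw [one1_apply]; exact one_ne_zero) n hn
  have st4 : ∀ n ∈ normalizer ((P : Subgroup G) : Set G), tw (θ₄ : K → ℂ) n = θ₄ :=
    fun n hn => H728.Four.Val.stable hK hk hc hr hone θ₄ hv4 n hn
  -- the supports are disjoint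
  have hdis : ∀ (χ : IrrCharacter G) (u : P), u ≠ 1 → part (one1 K : K → ℂ) (χ : G → ℂ) u = 0 ∨
      part (θ₄ : K → ℂ) (χ : G → ℂ) u = 0 := by
    intro χ u hu
    by_cases h : part (one1 K : K → ℂ) (χ : G → ℂ) u = 0
    · exact Or.inl h
    right
    refine part_eq_zero_of_not_mem_orb hK hP (one1 K).2 (χ := χ) ⟨u, hu, h⟩ ?_ hu
    rw [orb_of_stable (one1 K).2 st1, Finset.mem_singleton]
    exact h4
  refine ⟨H, iH, h12, fun u hu => ⟨fun χ h0 => ?_, ?_⟩⟩
  · rw [mean_eq hK h4 s1 s4 s0] at h0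
    rcases hdis χ u hu with h | h
    · rw [h, zero_add] at h0
      rcases mod_of_over hK hP he st4 hd4 (by norm_num) hp4 (χ := χ) ⟨u, hu, h0⟩ with h1 | h1 <;> rw [h1] <;> simp
    · rw [h, add_zero] at h0
      rcases mod_of_over hK hP he st1 hd1 (by norm_num) (by omega) (χ := χ) ⟨u, hu, h0⟩ with h1 | h1 <;> rw [h1] <;> simp
  · have h1 : ∀ χ : IrrCharacter G, ‖∑ v : H, (12 : ℂ)⁻¹ * (χ : G → ℂ) (u * ((v : K) : G))‖ ^ 2 =
        ‖part (one1 K : K → ℂ) (χ : G → ℂ) u‖ ^ 2 + ‖part (θ₄ : K → ℂ) (χ : G → ℂ) u‖ ^ 2 := by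
      intro χ
      rw [mean_eq hK h4 s1 s4 s0]
      rcases hdis χ u hu with h | h
      · rw [h, zero_add, norm_zero]; ring
      · rw [h, add_zero, norm_zero]; ring
    rw [Finset.sum_congr rfl fun χ _ => h1 χ, Finset.sum_add_distrib, H860.I4.sum_part_sq hK hP (one1 K).2 hu,
      H860.I4.sum_part_sq hK hP θ₄.2 hu]
    ring

end proj

/-! ### Strong reality -/

section real

variable {G : Type u} [Group G] [Finite G] {p : ℕ} [hp : Fact p.Prime] {P : Sylow p G} {K : Subgroup G}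

/-- an involution acting on an odd set -/
theorem exists_fix (hK : IsComp p (P : Subgroup G) K) (e : K ≃* A5) {j : G} (hjj : j * j = 1)
    (hj : j ∈ normalizer ((P : Subgroup G) : Set G)) : ∃ v : K, v * v = 1 ∧ v ≠ 1 ∧ j * (v : G) = v * j := by
  classical
  have hfin : Finite {c : K // c * c = 1 ∧ c ≠ 1} := Nat.finite_of_card_ne_zero (by rw [card_invK e]; norm_num)
  let f : Function.End {c : K // c * c = 1 ∧ c ≠ 1} := fun c => ⟨⟨j * (c : K) * j⁻¹, conj_mem hK hj (c : K).2⟩, by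
    have h1 : ((c : K) : G) * (c : K) = 1 := congrArg Subtype.val c.2.1
    refine ⟨Subtype.ext ?_, fun h => c.2.2 (Subtype.ext ?_)⟩
    · show j * ((c : K) : G) * j⁻¹ * (j * (c : K) * j⁻¹) = 1
      calc j * ((c : K) : G) * j⁻¹ * (j * (c : K) * j⁻¹) = j * (((c : K) : G) * (c : K)) * j⁻¹ := by group
        _ = 1 := by rw [h1]; group
    · have h2 : j * ((c : K) : G) * j⁻¹ = 1 := congrArg Subtype.val h
      show ((c : K) : G) = 1
      rwa [conj_eq_one_iff] at h2⟩
  have hf : f ^ 2 ^ 1 = 1 := by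
    rw [pow_one, pow_two]
    funext c
    apply Subtype.ext
    apply Subtype.ext
    show j * (j * ((c : K) : G) * j⁻¹) * j⁻¹ = ((c : K) : G)
    calc j * (j * ((c : K) : G) * j⁻¹) * j⁻¹ = (j * j) * (c : K) * (j * j)⁻¹ := by group
      _ = _ := by rw [hjj]; group
  have := Fintype.ofFinite {c : K // c * c = 1 ∧ c ≠ 1}
  have : Fact (Nat.Prime 2) := ⟨Nat.prime_two⟩
  have h1 := Equiv.Perm.card_fixedPoints_modEq (p := 2) (n := 1) hf
  rw [← Nat.card_eq_fintype_card, card_invK e] at h1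
  have h2 : Fintype.card ↑(Function.fixedPoints f) ≠ 0 := by
    intro h
    rw [h] at h1
    exact absurd h1 (by decide)
  obtain ⟨⟨c, hc⟩⟩ := Fintype.card_pos_iff.1 (Nat.pos_of_ne_zero h2)
  refine ⟨c, c.2.1, c.2.2, ?_⟩
  have h3 : j * ((c : K) : G) * j⁻¹ = (c : K) := congrArg (fun x : {c : K // c * c = 1 ∧ c ≠ 1} => ((x : K) : G)) hc
  calc j * ((c : K) : G) = j * ((c : K) : G) * j⁻¹ * j := by group
    _ = _ := by rw [h3]

/-- **The elements `u v` are strongly real.** -/
theorem sr_block (hK : IsComp p (P : Subgroup G) K) (e : K ≃* A5) {u : G} (hu : u ∈ (P : Subgroup G)) {k : K} (hk : orderOf k = 3)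
    {j : G} (hjj : j * j = 1) (hju : j * u * j⁻¹ = u⁻¹) (hjk : j * (k : G) * j⁻¹ = (k : G)⁻¹)
    (hj : j ∈ normalizer ((P : Subgroup G) : Set G)) {H : Subgroup K} (h12 : Nat.card H = 12) (v : H) :
    SR (u * ((v : K) : G)) := by
  have key : ∀ a b : K, IsConj a b → SR (u * (a : G)) → SR (u * (b : G)) := by
    intro a b hab h
    obtain ⟨c, hc⟩ := isConj_iff.1 hab
    have h1 := H529.Inv.Pair.SR.conj h (c : G)
    have h2 : (c : G) * a * (c : G)⁻¹ = b := congrArg Subtype.val hc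
    have h3 : u * (c : G) = c * u := hK.comm (x := u) (y := (c : G)) hu c.2
    have h4 : (c : G) * (u * a) * (c : G)⁻¹ = u * b := by
      calc (c : G) * (u * a) * (c : G)⁻¹ = (c * u) * a * (c : G)⁻¹ := by group
        _ = u * ((c : G) * a * (c : G)⁻¹) := by rw [← h3]; group
        _ = _ := by rw [h2]
    rwa [h4] at h1
  have hcomm : ∀ a : K, u * (a : G) = a * u := fun a => hK.comm (x := u) (y := (a : G)) hu a.2
  rcases ordK e h12 v.2 with h | h | h
  · rw [h]
    refine H529.Inv.Pair.SR.mul_of (j := j) (hcomm 1) hjj hju ?_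
    show j * (1 : G) * j⁻¹ = (1 : G)⁻¹
    group
  · obtain ⟨w, hww, hw1, hjw⟩ := exists_fix hK e hjj hj
    have hvv : (v : K) * v = 1 := by
      rw [← pow_two, ← h, pow_orderOf_eq_one]
    have hv1 : (v : K) ≠ 1 := by
      intro h1
      rw [h1, orderOf_one] at h
      norm_num at h
    refine key w v (conj2K e hww hw1 hvv hv1) (H529.Inv.Pair.SR.mul_of (j := j) (hcomm w) hjj hju ?_)
    have h1 : (w : G) * w = 1 := congrArg Subtype.val hww
    rw [hjw, mul_inv_cancel_right]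
    exact eq_inv_of_mul_eq_one_left h1
  · exact key k v (conj3K e hk h) (H529.Inv.Pair.SR.mul_of (j := j) (hcomm k) hjj hju hjk)

end real

/-! ### The Monster -/

open Cfsg.Agent.H241.NH Cfsg.Agent.H241.Mon Cfsg.Agent.H630.NH
open Cfsg.Agent.H715.Mon.Cent Cfsg.Agent.H715.Mon.Grp Cfsg.Agent.H715.Mon.Exact Cfsg.Agent.H715.Mon.Norm
open Cfsg.Agent.MonsterX Cfsg.Agent.MonsterX.InstData Cfsg.Agent.MonsterX.MainPack
open Cfsg.Agent.LThreeMB (XX mk exists_mk mk_eq_one mk_eq_mk Zx self)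

/-- the complement -/
theorem comp_iso {p : ℕ} [hF : Fact p.Prime] {P : Sylow p Gam} {K : Subgroup Gam} (hK : IsComp p (P : Subgroup Gam) K) {y : Gam}
    (hP : (P : Subgroup Gam) = zpowers y) (hy : orderOf y = p) (hc : Nat.card K = Nat.card (XX y)) :
    Nonempty (K ≃* XX y) := by
  have hle : K ≤ centralizer ({y} : Set Gam) := by
    intro k hk
    rw [mem_centralizer_singleton_iff]
    exact (hK.comm (x := y) (y := k) (by
      show y ∈ (P : Subgroup Gam)
      rw [hP]; exact mem_zpowers y) hk).symm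
  let f : K →* XX y := (QuotientGroup.mk' (Zx y)).comp (inclusion hle)
  have hf : Function.Injective f := by
    rw [injective_iff_map_eq_one]
    intro k hk
    have h1 : f k = mk y (mem_centralizer_singleton_iff.1 (hle k.2)) := rfl
    rw [h1, LThreeMB.mk_eq_one] at hk
    obtain ⟨i, hi⟩ := hk
    have h2 : orderOf (k : Gam) ∣ p := by
      apply orderOf_dvd_of_pow_eq_one
      rw [← hi, ← zpow_natCast, ← zpow_mul, mul_comm, zpow_mul, zpow_natCast, ← hy, pow_orderOf_eq_one, one_zpow]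
    have h3 : ¬ p ∣ orderOf (k : Gam) := ((hK k).1 k.2).2
    have h4 : orderOf (k : Gam) = 1 := ((Nat.dvd_prime hF.out).1 h2).resolve_right fun h => h3 (by rw [h])
    exact Subtype.ext (orderOf_eq_one_iff.1 h4)
  have : Finite (XX y) := by
    show Finite (centralizer ({y} : Set Gam) ⧸ Zx y)
    infer_instance
  exact ⟨MulEquiv.ofBijective f (hf.bijective_of_nat_card_le hc.ge)⟩

/-- the local data of an element of order 19 -/
theorem local19 (h3 : SThree.{0}) {y : Gam} (hy : orderOf y = 19) : ∃ (P : Sylow 19 Gam) (K : Subgroup Gam),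
    (P : Subgroup Gam) = zpowers y ∧ Nat.card P = 19 ∧ IsComp 19 (P : Subgroup Gam) K ∧ Nonempty (K ≃* A5) ∧
      (centralizer ((P : Subgroup Gam) : Set Gam)).relIndex (normalizer ((P : Subgroup Gam) : Set Gam)) = 18 := by
  have h19 : Nat.Prime 19 := by norm_num
  have hF : Fact (Nat.Prime 19) := ⟨h19⟩
  have h1 : 19 ∣ Nat.card Gam := by rw [card_G]; norm_num
  have h2 : ¬ 19 ^ 2 ∣ Nat.card Gam := by rw [card_G]; norm_num
  have hpg : IsPGroup 19 (zpowers y) := IsPGroup.of_card (n := 1) (by rw [Nat.card_zpowers, hy, pow_one])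
  obtain ⟨P, hyP⟩ := hpg.exists_le_sylow
  have hP : Nat.card P = 19 := SmallSimple.PrimeLocal.card_of_not_sq_dvd h1 h2 P
  have hPx : (P : Subgroup Gam) = zpowers y := by
    have h3 : Nat.card (zpowers y) = Nat.card (P : Subgroup Gam) := by rw [Nat.card_zpowers, hy]; exact hP.symm
    exact (Subgroup.eq_of_le_of_card_ge hyP h3.ge).symm
  obtain ⟨K, hK⟩ := exists_isComp P hP
  have hCP : Nat.card (centralizer ((P : Subgroup Gam) : Set Gam)) = 60 * 19 := by
    rw [hPx, SmallSimple.SelfCentPrime.centralizer_zpowers, card19' h3 hy]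
  have hKc : Nat.card K = 60 := by
    have h3 := SmallSimple.ThetaOrtho.card_centralizer hK hP
    rw [hCP, mul_comm] at h3
    exact (Nat.eq_of_mul_eq_mul_left (by norm_num) h3).symm
  have hXX : Nat.card (XX y) = 60 := by
    have h4 := card19' h3 hy
    rw [card_XX hy] at h4
    exact Nat.eq_of_mul_eq_mul_right (by norm_num) h4
  obtain ⟨e⟩ := comp_iso hK hPx hy (by rw [hKc, hXX])
  obtain ⟨e'⟩ := iso19 h3 hy
  exact ⟨P, K, hPx, hP, hK, ⟨e.trans e'⟩,
    (relIndex_eq (c := 60 * 19) (e := 18) h19 h2 (fun x hx => card19' h3 hx) (by norm_num) (by rw [card_G]) hP).1⟩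

/-- the projection of the Monster at 19 -/
theorem exists_coset (h3 : SThree.{0}) [Fintype (IrrCharacter Gam)] : ∃ (ι : Type) (_ : Fintype ι) (f : ι → Gam),
    (∀ i, SR (f i)) ∧ Fintype.card ι = 12 ∧
    (∀ χ : IrrCharacter Gam, ∑ i, (12 : ℂ)⁻¹ * (χ : Gam → ℂ) (f i) ≠ 0 →
      charDegree (χ : Gam → ℂ) % 19 ∈ [1, 4, 15, 18]) ∧
    ∑ χ : IrrCharacter Gam, ‖∑ i, (12 : ℂ)⁻¹ * (χ : Gam → ℂ) (f i)‖ ^ 2 = (38 : ℝ) := by
  have h19 : Nat.Prime 19 := by norm_num
  have hF : Fact (Nat.Prime 19) := ⟨h19⟩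
  have hF3 : Fact (Nat.Prime 3) := ⟨Nat.prime_three⟩
  obtain ⟨g, w, hw, hg, hc⟩ := H593.IMMonC.g57
  have hg : orderOf g = 57 := hg
  have hg1 : g ≠ 1 := by
    rintro rfl
    rw [orderOf_one] at hg
    norm_num at hg
  obtain ⟨t, ht, htg⟩ := S0241.result g hg1 (isConj_iff.2 ⟨w, hw⟩)
    (Odd.of_dvd_nat (by decide : Odd (3 * (3 ^ 10 * 5 ^ 3 * 7 ^ 2 * 13 * 19 * 31))) hc)
  have htt : t * t = 1 := mul_self_of ht
  have htp : ∀ n : ℕ, t * g ^ n * t⁻¹ = (g ^ n)⁻¹ := by
    intro n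
    rw [← MulAut.conj_apply, map_pow, MulAut.conj_apply, htg, inv_pow]
  -- the two parts
  have hu : orderOf (g ^ 39) = 19 := by
    rw [orderOf_pow' g (by norm_num), hg]; rfl
  have hv : orderOf (g ^ 19) = 3 := by
    rw [orderOf_pow' g (by norm_num), hg]; rfl
  have hcomm : g ^ 39 * g ^ 19 = g ^ 19 * g ^ 39 := by rw [← pow_add, ← pow_add]
  have htu := htp 39
  have htv := htp 19
  generalize hu' : g ^ 39 = u at *
  generalize hv' : g ^ 19 = v at *
  obtain ⟨P, K, hPx, hP, hK, ⟨e⟩, he⟩ := local19 h3 hu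
  have hvK : v ∈ K := by
    rw [hK v]
    refine ⟨?_, by rw [hv]; norm_num⟩
    rw [hPx, SmallSimple.SelfCentPrime.centralizer_zpowers, mem_centralizer_singleton_iff]
    exact hcomm.symm
  have huP : u ∈ (P : Subgroup Gam) := by rw [hPx]; exact mem_zpowers u
  have ha : (⟨u, huP⟩ : (P : Subgroup Gam)) ≠ 1 := by
    intro h
    have h1 : u = 1 := congrArg Subtype.val h
    rw [h1, orderOf_one] at hu
    norm_num at hu
  have htN : t ∈ normalizer ((P : Subgroup Gam) : Set Gam) := by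
    have h1 : ∀ x ∈ (P : Subgroup Gam), t * x * t⁻¹ ∈ (P : Subgroup Gam) := by
      intro x hx
      rw [hPx] at hx
      obtain ⟨i, hi⟩ := hx
      have hi' : u ^ i = x := hi
      rw [← hi', ← MulAut.conj_apply, map_zpow, MulAut.conj_apply, htu]
      exact zpow_mem (inv_mem huP) i
    rw [mem_normalizer_iff]
    intro x
    refine ⟨h1 x, fun h => ?_⟩
    have h2 := h1 _ h
    have h3 : t * (t * x * t⁻¹) * t⁻¹ = x := by
      calc t * (t * x * t⁻¹) * t⁻¹ = (t * t) * x * (t * t)⁻¹ := by group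
        _ = x := by rw [htt]; group
    rwa [h3] at h2
  obtain ⟨H, iH, h12, hproj⟩ := exists_proj hK hP he (by norm_num) e
  obtain ⟨h4, h5⟩ := hproj ⟨u, huP⟩ ha
  refine ⟨H, iH, fun v => u * ((v : K) : Gam), fun v => ?_, by rw [← Nat.card_eq_fintype_card, h12], h4, ?_⟩
  · exact sr_block hK e huP (k := ⟨_, hvK⟩) (by rw [Subgroup.orderOf_mk, hv]) htt htu htv htN h12 v
  · rw [h5]; norm_num

/-- **Products of four involutions of the Monster.** -/
theorem i4_of_deg (h3 : SThree.{0}) (h41 : ∀ x : Gam, orderOf x = 41 → Nat.card (centralizer ({x} : Set Gam)) = 41)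
    {D B : ℕ} (hdeg : ∀ χ : IrrCharacter Gam, (χ : Gam → ℂ) ≠ 1 → charDegree (χ : Gam → ℂ) % 41 ∈ [1, 40] →
      charDegree (χ : Gam → ℂ) % 19 ∈ [1, 4, 15, 18] → D ≤ charDegree (χ : Gam → ℂ))
    (hnum : 37 * (B - 1) < D ^ 2) {h : Gam} (hh : Nat.card (centralizer ({h} : Set Gam)) ≤ B) : I4 h := by
  classical
  have hp : Nat.Prime 41 := by norm_num
  have hF : Fact (Nat.Prime 41) := ⟨hp⟩
  have hsim : IsSimpleGroup Gam := BpSpor.MBigModel.simple
  have hfin : Finite (IrrCharacter Gam) := finite_irr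
  have := Fintype.ofFinite (IrrCharacter Gam)
  have h41' : 41 ∣ Nat.card Gam := by rw [card_G]; norm_num
  have hsq : ¬ 41 ^ 2 ∣ Nat.card Gam := by rw [card_G]; norm_num
  obtain ⟨x, hx⟩ := exists_prime_orderOf_dvd_card' 41 h41'
  have hx1 : x ≠ 1 := by
    rintro rfl
    rw [orderOf_one] at hx
    norm_num at hx
  have hxr : IsConj x x⁻¹ := isConj_of hp hsq (fun P hP =>
    (relIndex_eq (c := 41) (e := 40) hp hsq h41 (by norm_num) (by rw [card_G]) hP).1) hx (by rw [orderOf_inv, hx])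
  obtain ⟨t, ht, htx⟩ := S0241.result x hx1 hxr (by rw [h41 x hx]; decide)
  have hSR : SR x := ⟨t, mul_self_of ht, htx⟩
  have hna : ¬ IsMulCommutative Gam := by
    intro hc
    have h1 : centralizer ({x} : Set Gam) = ⊤ := by
      rw [eq_top_iff]
      intro y _
      rw [mem_centralizer_singleton_iff]
      exact hc.is_comm.comm y x
    have h2 := h41 x hx
    rw [h1, Subgroup.card_top, card_G] at h2
    norm_num at h2
  obtain ⟨NE, X, hD⟩ := H65.Ore.exists_dat hna hp card_G hx (h41 x hx) 40 1 (41 ^ 4) (by decide +kernel)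
  obtain ⟨ι, iι, f, hf, hc12, hmod, hsum⟩ := exists_coset h3
  have hD0 : 0 < D := by
    rcases Nat.eq_zero_or_pos D with h | h
    · rw [h] at hnum; simp at hnum
    · exact h
  have hB : 1 ≤ B := le_trans Nat.card_pos hh
  have hle : ∀ χ : IrrCharacter Gam, ‖(χ : Gam → ℂ) x‖ ^ 2 ≤ 1 := by
    intro χ
    have h1 := H529.Inv.Pair.sq_le_of_dat hD (by norm_num) hx χ
    norm_num at h1
    simpa using h1
  obtain ⟨i, j, -, -, hprd⟩ := H860.I4.exists_prd (g := h) (fun _ : Unit => x) f (fun _ => 1) (fun _ => (12 : ℂ)⁻¹)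
    (by simp) (by rw [Finset.sum_const, Finset.card_univ, hc12]; norm_num) (S := 38) (d := D) (by exact_mod_cast hD0) (by
      rw [← hsum]
      refine Finset.sum_le_sum fun χ _ => ?_
      rw [mul_pow]
      have h1 : ∑ _i : Unit, (1 : ℂ) * (χ : Gam → ℂ) x = (χ : Gam → ℂ) x := by simp
      rw [h1]
      exact mul_le_of_le_one_left (sq_nonneg _) (hle χ)) (by
      intro χ h1 h2 h4
      have h5 : ∑ _i : Unit, (1 : ℂ) * (χ : Gam → ℂ) x = (χ : Gam → ℂ) x := by simp
      rw [h5] at h2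
      have h6 : charDegree (χ : Gam → ℂ) % 41 ∈ [1, 40] := by
        have h7 := H529.Inv.Pair.mod_of_dat hD hx h2
        simp only [List.mem_cons, List.not_mem_nil, or_false] at h7 ⊢
        omega
      have h7 := hdeg χ h1 h6 (hmod χ h4)
      rw [Blocks.Knorr.charDegree_eq χ.2, Complex.norm_natCast]
      exact_mod_cast h7) (by
      have h2 : (Nat.card (centralizer ({h} : Set Gam)) : ℝ) ≤ B := by exact_mod_cast hh
      have h4 : ((37 * (B - 1) : ℕ) : ℝ) < ((D ^ 2 : ℕ) : ℝ) := by exact_mod_cast hnum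
      rw [Nat.cast_mul, Nat.cast_sub hB] at h4
      push_cast at h4
      calc ((38 : ℝ) - 1) * ((Nat.card (centralizer ({h} : Set Gam)) : ℝ) - 1)
          ≤ ((38 : ℝ) - 1) * ((B : ℝ) - 1) := mul_le_mul_of_nonneg_left (by linarith) (by norm_num)
        _ < _ := by norm_num; exact h4)
  exact H529.Inv.Pair.i4_of_prd hSR (hf j) hprd

end Cfsg.Agent.H529.MSev.L19
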