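import Cfsg.Agent.H529.MSev.FourM
import Cfsg.Agent.H995.Co1T.FourAll
import Cfsg.Agent.H58.Mon.Fin

/-!
# S4171, row M (helper529; parts of helper146, 995, 740, 860, 455, 58, 8, 537, 497, 979)

`four_M` : every element of the Monster is a product of four involutions.
-/

set_option autoImplicit false
set_option maxRecDepth 100000

namespace Cfsg.Agent.H529.MSev

open Cfsg Subgroup
open Cfsg.Agent.BpSpor.MBigModel (MG zz)
open Cfsg.Agent.H777.Ore (I4 Inv4)
open Cfsg.Agent.H940.Eng (Base)

universe u

theorem four_MG (B : Base) : Inv4 MG :=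
  four_MG_of B (fun x hx _ => H995.Co1T.four_all x hx)
    (fun hq hq5 hx => (H58.MonFin.hB (H438.Fpr.Mon.allKnown B) (H715.Mon.Grp.sThree B) hq hq5 hx).trans (by norm_num))

/-- **Every element of the Monster is a product of four involutions.** -/
theorem four_M {S : Type u} [Group S] (B : Base) (h : Spor.IsoM S) : Inv4 S :=
  Row.row_of h (four_MG B)

end Cfsg.Agent.H529.MSev
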