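import Cfsg.Agent.Characters.Central
import Cfsg.Agent.Characters.Core

/-!
# The two-sided ratio lemma (S4173, row M, elements of order 3) (helper529)

* `two_sided` : `s` normalizes `N`, `s³ ∈ N`: `-(S₀ / 2) ≤ Re S₁ ≤ S₀`, `S₀ = ∑_N χ(x)`, `S₁ = ∑_N χ(s x)`;
* `ratio_central` : `z` central, `z² = 1`, `z ∈ N`, `|N| = 2 m²`, all `s x` (`x ∈ N`) conjugate to `s` or `s z`, all `x ∈ N`,
  `x ≠ 1, z`, conjugate to `x z`: `-(F / 2) - E ≤ Re χ(s) ≤ F + E`, `F = S₀ / |N|`, `E = (χ(1) - χ(z)) / (2 m)`;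
* `ratio` : the same in a group `G`, all the conjugations by elements commuting with `z`.
-/

set_option autoImplicit false

namespace Cfsg.Agent.H529.MSev.RatExt

open Cfsg Subgroup Representation
open Cfsg.Agent.Characters Cfsg.Agent.Characters.Core
open scoped ComplexConjugate

universe u

/-- the trace of an idempotent -/
theorem trace_idem {V : Type*} [AddCommGroup V] [Module ℂ V] [FiniteDimensional ℂ V] {T : Module.End ℂ V}
    (h : T * T = T) : ∃ n : ℕ, LinearMap.trace ℂ V T = n := by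
  have h1 : LinearMap.IsProj (LinearMap.range T) T := by
    refine ⟨fun x => ⟨x, rfl⟩, ?_⟩
    rintro x ⟨y, rfl⟩
    have := LinearMap.congr_fun h y
    exact this
  exact ⟨_, h1.trace⟩

section two

variable {G : Type u} [Group G] [Finite G]

/-- **The two-sided bound.** -/
theorem two_sided {χ : G → ℂ} (hχ : IsCharacter G χ) {N : Subgroup G} [Fintype N] {s : G}
    (hs : ∀ x ∈ N, s * x * s⁻¹ ∈ N) (h3 : s * s * s ∈ N) :
    ∃ m : ℕ, ∑ x : N, χ x = (m : ℂ) * (Nat.card N : ℂ) ∧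
      -((m : ℝ) / 2) * (Nat.card N : ℝ) ≤ (∑ x : N, χ (s * x)).re ∧
      (∑ x : N, χ (s * x)).re ≤ (m : ℝ) * (Nat.card N : ℝ) := by
  classical
  have hχ' := hχ
  obtain ⟨n, ρ, rfl⟩ := hχ
  set V := Fin n → ℂ with hV
  set A : Module.End ℂ V := ∑ x : N, ρ x with hA
  have hc : (Nat.card N : ℂ) ≠ 0 := by exact_mod_cast Nat.card_pos.ne'
  have hcr : (0 : ℝ) < (Nat.card N : ℝ) := by exact_mod_cast Nat.card_pos
  have hyA : ∀ y ∈ N, ρ y * A = A := by
    intro y hy
    rw [hA, Finset.mul_sum]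
    refine Fintype.sum_equiv (Equiv.mulLeft (⟨y, hy⟩ : N)) _ _ fun x => ?_
    rw [← map_mul]; rfl
  have hAA : A * A = (Nat.card N : ℂ) • A := by
    conv_lhs => rw [hA, Finset.sum_mul]
    rw [Finset.sum_congr rfl fun (x : N) _ => hyA x x.2, Finset.sum_const, Finset.card_univ, ← Nat.card_eq_fintype_card,
      ← Nat.cast_smul_eq_nsmul ℂ]
  have hsA : ρ s * A = A * ρ s := by
    rw [hA, Finset.mul_sum, Finset.sum_mul]
    refine Fintype.sum_bijective (fun x : N => (⟨s * x * s⁻¹, hs x x.2⟩ : N)) ?_ _ _ fun x => ?_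
    · refine Finite.injective_iff_bijective.1 fun x y hxy => Subtype.ext ?_
      have h1 : s * (x : G) * s⁻¹ = s * y * s⁻¹ := congrArg Subtype.val hxy
      exact mul_left_cancel (mul_right_cancel h1)
    · rw [← map_mul, ← map_mul]
      congr 1
      show s * (x : G) = s * x * s⁻¹ * s
      group
  set S : Module.End ℂ V := ρ s with hS
  have hS3 : S * (S * (S * A)) = A := by
    have h1 := hyA _ h3
    rw [map_mul, map_mul] at h1
    simpa only [mul_assoc] using h1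
  set B : Module.End ℂ V := A + S * A + S * (S * A) with hB
  have hSB : S * B = B := by
    rw [hB, mul_add, mul_add, hS3]
    abel
  have hAB : A * B = (Nat.card N : ℂ) • B := by
    have e1 : A * (S * A) = (Nat.card N : ℂ) • (S * A) := by
      rw [← mul_assoc, ← hsA, mul_assoc, hAA, mul_smul_comm]
    have e2 : A * (S * (S * A)) = (Nat.card N : ℂ) • (S * (S * A)) := by
      rw [← mul_assoc, ← hsA, mul_assoc, e1, mul_smul_comm]
    rw [hB, mul_add, mul_add, hAA, e1, e2, smul_add, smul_add]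
  have hBA : B * A = (Nat.card N : ℂ) • B := by
    rw [hB, add_mul, add_mul, mul_assoc, mul_assoc, mul_assoc, hAA, mul_smul_comm, mul_smul_comm, smul_add, smul_add]
  have hBB : B * B = (3 * (Nat.card N : ℂ)) • B := by
    conv_lhs => rw [hB, add_mul, add_mul, mul_assoc, mul_assoc, mul_assoc]
    rw [hAB, mul_smul_comm, hSB, mul_smul_comm, hSB, ← add_smul, ← add_smul]
    congr 1; ring
  -- the two idempotents
  obtain ⟨a, ha⟩ := trace_idem (T := (Nat.card N : ℂ)⁻¹ • A) (by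
    rw [smul_mul_smul_comm, hAA, smul_smul]
    congr 1
    field_simp)
  obtain ⟨b, hb⟩ := trace_idem (T := (3 * (Nat.card N : ℂ))⁻¹ • B) (by
    rw [smul_mul_smul_comm, hBB, smul_smul]
    congr 1
    field_simp)
  obtain ⟨d, hd⟩ := trace_idem (T := (Nat.card N : ℂ)⁻¹ • A - (3 * (Nat.card N : ℂ))⁻¹ • B) (by
    rw [sub_mul, mul_sub, mul_sub, smul_mul_smul_comm, smul_mul_smul_comm, smul_mul_smul_comm, smul_mul_smul_comm,
      hAA, hAB, hBA, hBB, smul_smul, smul_smul, smul_smul, smul_smul]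
    have e1 : (Nat.card N : ℂ)⁻¹ * (Nat.card N : ℂ)⁻¹ * (Nat.card N : ℂ) = (Nat.card N : ℂ)⁻¹ := by field_simp
    have e2 : (Nat.card N : ℂ)⁻¹ * (3 * (Nat.card N : ℂ))⁻¹ * (Nat.card N : ℂ) = (3 * (Nat.card N : ℂ))⁻¹ := by field_simp
    have e3 : (3 * (Nat.card N : ℂ))⁻¹ * (Nat.card N : ℂ)⁻¹ * (Nat.card N : ℂ) = (3 * (Nat.card N : ℂ))⁻¹ := by field_simp
    have e4 : (3 * (Nat.card N : ℂ))⁻¹ * (3 * (Nat.card N : ℂ))⁻¹ * (3 * (Nat.card N : ℂ)) = (3 * (Nat.card N : ℂ))⁻¹ := by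
      field_simp
    rw [e1, e2, e3, e4]
    abel)
  -- the traces
  have tA : LinearMap.trace ℂ V A = ∑ x : N, ρ.character x := by rw [hA, map_sum]; rfl
  have tSA : LinearMap.trace ℂ V (S * A) = ∑ x : N, ρ.character (s * x) := by
    rw [hA, Finset.mul_sum, map_sum]
    refine Finset.sum_congr rfl fun x _ => ?_
    rw [hS, ← map_mul]; rfl
  have tSSA : LinearMap.trace ℂ V (S * (S * A)) = ∑ x : N, ρ.character (s * s * x) := by
    rw [← mul_assoc, hA, Finset.mul_sum, map_sum]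
    refine Finset.sum_congr rfl fun x _ => ?_
    rw [hS, ← map_mul, ← map_mul]; rfl
  have tconj : ∑ x : N, ρ.character (s * s * x) = conj (∑ x : N, ρ.character (s * x)) := by
    rw [map_sum]
    symm
    refine Fintype.sum_bijective (fun x : N => (⟨s * s * s, h3⟩ : N)⁻¹ * ⟨s * x * s⁻¹, hs x x.2⟩⁻¹) ?_ _ _ fun x => ?_
    · refine Finite.injective_iff_bijective.1 fun x y hxy => ?_
      have h1 := inv_injective (mul_left_cancel hxy)
      have h2 : s * (x : G) * s⁻¹ = s * y * s⁻¹ := congrArg Subtype.val h1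
      exact Subtype.ext (mul_left_cancel (mul_right_cancel h2))
    · rw [← isCharacter_apply_inv hχ']
      congr 1
      show _ = s * s * ((s * s * s)⁻¹ * (s * (x : G) * s⁻¹)⁻¹)
      group
  rw [map_smul, smul_eq_mul, tA] at ha
  rw [map_smul, smul_eq_mul] at hb
  rw [map_sub, map_smul, map_smul, smul_eq_mul, smul_eq_mul, tA, ha, hb] at hd
  have tB : LinearMap.trace ℂ V B = (a : ℂ) * (Nat.card N : ℂ) + 2 * (((∑ x : N, ρ.character (s * x)).re : ℝ) : ℂ) := by
    rw [hB, map_add, map_add, tA, tSA, tSSA, tconj, add_assoc, Complex.add_conj]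
    rw [← ha]
    push_cast
    field_simp
  rw [tB] at hb
  have hb' : (a : ℝ) * (Nat.card N : ℝ) + 2 * (∑ x : N, ρ.character (s * x)).re = (b : ℝ) * (3 * (Nat.card N : ℝ)) := by
    have h1 : (a : ℂ) * (Nat.card N : ℂ) + 2 * (((∑ x : N, ρ.character (s * x)).re : ℝ) : ℂ) =
        (b : ℂ) * (3 * (Nat.card N : ℂ)) := by
      rw [← hb]; field_simp
    exact_mod_cast h1
  have hd' : (a : ℝ) = b + d := by
    have h1 : (a : ℂ) = b + d := by rw [← hd]; ring
    exact_mod_cast h1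
  have hb0 : (0 : ℝ) ≤ b := Nat.cast_nonneg _
  have hd0 : (0 : ℝ) ≤ d := Nat.cast_nonneg _
  refine ⟨a, ?_, ?_, ?_⟩
  · rw [← ha]; field_simp
  · nlinarith [mul_nonneg hb0 hcr.le]
  · have h2 : (b : ℝ) * (3 * (Nat.card N : ℝ)) ≤ (a : ℝ) * (3 * (Nat.card N : ℝ)) :=
      mul_le_mul_of_nonneg_right (by linarith) (by linarith)
    linarith

end two

section central

variable {G : Type u} [Group G] [Finite G]

/-- **The irreducible case.** -/
theorem ratio_irr {z s : G} (hz : ∀ g : G, g * z = z * g) (hzz : z * z = 1) {N : Subgroup G} [Fintype N] (hzN : z ∈ N)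
    (hz1 : z ≠ 1)
    (hs : ∀ x ∈ N, s * x * s⁻¹ ∈ N) (h3 : s * s * s ∈ N) (hsx : ∀ x ∈ N, IsConj (s * x) s ∨ IsConj (s * x) (s * z))
    (hx : ∀ x ∈ N, x ≠ 1 → x ≠ z → IsConj x (x * z)) {m : ℕ} (hm0 : 0 < m) (hm : Nat.card N = 2 * m ^ 2)
    {ψ : G → ℂ} (hψ : IsIrrCharacter G ψ) :
    -((∑ x : N, ψ x).re / Nat.card N / 2) - (ψ 1 - ψ z).re / (2 * m) ≤ (ψ s).re ∧
      (ψ s).re ≤ (∑ x : N, ψ x).re / Nat.card N + (ψ 1 - ψ z).re / (2 * m) := by
  classical
  have hcr : (0 : ℝ) < (Nat.card N : ℝ) := by exact_mod_cast Nat.card_pos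
  have hmr : (0 : ℝ) < (m : ℝ) := by exact_mod_cast hm0
  have hcl := isIrr_isClassFunction hψ
  have hcj : ∀ {g h : G}, IsConj g h → ψ g = ψ h := by
    intro g h hgh
    obtain ⟨c, rfl⟩ := isConj_iff.1 hgh
    exact (hcl g c).symm
  obtain ⟨d, hd0, hd⟩ := isIrr_apply_one hψ
  -- the sign
  obtain ⟨ε, hε, hval⟩ : ∃ ε : ℂ, ε * ε = 1 ∧ ∀ g, ψ (g * z) = ε * ψ g := by
    obtain ⟨n, ρ, hρ, rfl⟩ := hψ
    obtain ⟨c, hc⟩ := Central.exists_smul_of_comm ρ hρ (ρ z) (fun g => by rw [← map_mul, ← map_mul, hz g])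
    have hv : ∀ g, ρ.character (g * z) = c * ρ.character g := by
      intro g
      show LinearMap.trace ℂ _ (ρ (g * z)) = c * LinearMap.trace ℂ _ (ρ g)
      rw [map_mul, hc, mul_smul_comm, mul_one, map_smul, smul_eq_mul]
    refine ⟨c, ?_, hv⟩
    have h1 := hv (1 * z)
    rw [hv 1, mul_assoc, hzz, mul_one, ← mul_assoc] at h1
    have h2 : ρ.character 1 ≠ 0 := by
      rw [hd]
      exact_mod_cast hd0.ne'
    exact mul_right_cancel₀ h2 (by rw [one_mul]; exact h1.symm)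
  have hψz : ψ z = ε * ψ 1 := by rw [← hval 1, one_mul]
  rcases (mul_self_eq_one_iff.1 hε) with h1 | h1
  · -- `z` in the kernel
    subst h1
    have hS : ∑ x : N, ψ (s * x) = (Nat.card N : ℂ) * ψ s := by
      have e : ∀ x : N, ψ (s * x) = ψ s := by
        intro x
        rcases hsx x x.2 with h | h
        · exact hcj h
        · rw [hcj h, hval, one_mul]
      rw [Finset.sum_congr rfl fun x _ => e x, Finset.sum_const, Finset.card_univ, ← Nat.card_eq_fintype_card,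
        nsmul_eq_mul]
    obtain ⟨a, ha, h4, h5⟩ := two_sided (isIrr_isCharacter hψ) hs h3
    have hre : (∑ x : N, ψ (s * x)).re = (Nat.card N : ℝ) * (ψ s).re := by
      rw [hS]
      simp
    rw [hre] at h4 h5
    have hF : (∑ x : N, ψ x).re / Nat.card N = a := by
      rw [ha]
      have : ((a : ℂ) * (Nat.card N : ℂ)).re = (a : ℝ) * Nat.card N := by simp
      rw [this]
      field_simp
    have hE : (ψ 1 - ψ z).re / (2 * m) = 0 := by
      rw [hψz, one_mul, sub_self]; simp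
    rw [hF, hE]
    constructor
    · have : -((a : ℝ) / 2) ≤ (ψ s).re := by
        by_contra hcon
        push Not at hcon
        nlinarith
      linarith
    · have : (ψ s).re ≤ a := by
        by_contra hcon
        push Not at hcon
        nlinarith
      linarith
  · -- `z` acts as `-1`
    subst h1
    have h0 : ∀ x ∈ N, x ≠ 1 → x ≠ z → ψ x = 0 := by
      intro x hxN h1 h2
      have h3 := hcj (hx x hxN h1 h2)
      rw [hval] at h3
      have h4 : (2 : ℂ) * ψ x = 0 := by linear_combination h3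
      exact (mul_eq_zero.1 h4).resolve_left two_ne_zero
    have hsum : ∀ f : G → ℂ, (∀ x ∈ N, x ≠ 1 → x ≠ z → f x = 0) → ∑ x : N, f x = f 1 + f z := by
      intro f hf
      rw [← Finset.sum_subset (Finset.subset_univ {(1 : N), ⟨z, hzN⟩}), Finset.sum_pair]
      · rfl
      · intro h
        exact hz1 (congrArg Subtype.val h).symm
      · intro x _ hx'
        simp only [Finset.mem_insert, Finset.mem_singleton, not_or] at hx'
        exact hf x x.2 (fun h => hx'.1 (Subtype.ext h)) (fun h => hx'.2 (Subtype.ext h))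
    have hF : ∑ x : N, ψ x = 0 := by
      rw [hsum ψ h0, hψz]; ring
    -- the square
    set φ : G → ℂ := ψ * fun g => conj (ψ g) with hφ
    have hφc : IsCharacter G φ := isCharacter_mul (isIrr_isCharacter hψ) (isCharacter_conj (isIrr_isCharacter hψ))
    have hφv : ∀ g, φ g = ((‖ψ g‖ ^ 2 : ℝ) : ℂ) := by
      intro g
      show ψ g * conj (ψ g) = _
      rw [Complex.mul_conj, Complex.normSq_eq_norm_sq]
    obtain ⟨a, ha, -, h5⟩ := two_sided hφc hs h3
    have e1 : ∀ x : N, φ (s * x) = ((‖ψ s‖ ^ 2 : ℝ) : ℂ) := by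
      intro x
      rw [hφv]
      rcases hsx x x.2 with h | h
      · rw [hcj h]
      · rw [hcj h, hval, norm_mul, norm_neg, norm_one, one_mul]
    rw [Finset.sum_congr rfl fun x _ => e1 x, Finset.sum_const, Finset.card_univ, ← Nat.card_eq_fintype_card,
      nsmul_eq_mul] at h5
    have e2 : ((Nat.card N : ℂ) * ((‖ψ s‖ ^ 2 : ℝ) : ℂ)).re = (Nat.card N : ℝ) * ‖ψ s‖ ^ 2 := by
      rw [← Complex.ofReal_natCast, ← Complex.ofReal_mul, Complex.ofReal_re]
    rw [e2] at h5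
    rw [hsum φ (fun x hxN h1 h2 => by rw [hφv, h0 x hxN h1 h2]; simp), hφv, hφv, hψz, norm_mul, norm_neg, norm_one,
      one_mul, hd, Complex.norm_natCast] at ha
    have ha' : (a : ℝ) * (Nat.card N : ℝ) = 2 * (d : ℝ) ^ 2 := by
      have : (((a : ℝ) * (Nat.card N : ℝ) : ℝ) : ℂ) = ((2 * (d : ℝ) ^ 2 : ℝ) : ℂ) := by
        push_cast
        rw [← ha]
        push_cast
        ring
      exact_mod_cast this
    rw [ha', hm] at h5
    push_cast at h5
    have h6 : ((m : ℝ) * ‖ψ s‖) ^ 2 ≤ (d : ℝ) ^ 2 := by nlinarith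
    have h7 : (m : ℝ) * ‖ψ s‖ ≤ d := by
      exact (pow_le_pow_iff_left₀ (by positivity) (by positivity) two_ne_zero).1 h6
    have hE : (ψ 1 - ψ z).re / (2 * m) = d / m := by
      rw [hψz, hd]
      have : ((d : ℂ) - -1 * (d : ℂ)).re = 2 * (d : ℝ) := by
        simp; ring
      rw [this]
      field_simp
    have h8 : ‖ψ s‖ ≤ d / m := by
      rw [le_div_iff₀ hmr, mul_comm]; exact h7
    have h9 := Complex.abs_re_le_norm (ψ s)
    rw [abs_le] at h9
    rw [hF, hE]
    simp only [Complex.zero_re, zero_div, neg_zero, zero_sub, zero_add]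
    constructor <;> linarith [h9.1, h9.2]

/-- **The two-sided ratio lemma**, `z` central. -/
theorem ratio_central {z s : G} (hz : ∀ g : G, g * z = z * g) (hzz : z * z = 1) {N : Subgroup G} [Fintype N] (hzN : z ∈ N)
    (hz1 : z ≠ 1)
    (hs : ∀ x ∈ N, s * x * s⁻¹ ∈ N) (h3 : s * s * s ∈ N) (hsx : ∀ x ∈ N, IsConj (s * x) s ∨ IsConj (s * x) (s * z))
    (hx : ∀ x ∈ N, x ≠ 1 → x ≠ z → IsConj x (x * z)) {m : ℕ} (hm0 : 0 < m) (hm : Nat.card N = 2 * m ^ 2)
    {χ : G → ℂ} (hχ : IsCharacter G χ) :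
    -((∑ x : N, χ x).re / Nat.card N / 2) - (χ 1 - χ z).re / (2 * m) ≤ (χ s).re ∧
      (χ s).re ≤ (∑ x : N, χ x).re / Nat.card N + (χ 1 - χ z).re / (2 * m) := by
  classical
  have : Finite (IrrCharacter G) := finite_irr
  have := Fintype.ofFinite (IrrCharacter G)
  obtain ⟨f, hf⟩ := exists_nat_comb hχ
  have hre : ∀ g, (χ g).re = ∑ ψ : IrrCharacter G, (f ψ : ℝ) * ((ψ : G → ℂ) g).re := by
    intro g
    rw [hf]
    simp [Finset.sum_apply, Complex.re_sum]
  have hS : (∑ x : N, χ x).re = ∑ ψ : IrrCharacter G, (f ψ : ℝ) * (∑ x : N, (ψ : G → ℂ) x).re := by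
    rw [Complex.re_sum, Finset.sum_congr rfl fun (x : N) _ => hre x, Finset.sum_comm]
    refine Finset.sum_congr rfl fun ψ _ => ?_
    rw [Complex.re_sum, Finset.mul_sum]
  rw [hS, Complex.sub_re, hre 1, hre z, hre s, ← Finset.sum_sub_distrib]
  have key := fun ψ : IrrCharacter G => ratio_irr hz hzz hzN hz1 hs h3 hsx hx hm0 hm ψ.2
  constructor
  · rw [Finset.sum_div, Finset.sum_div, Finset.sum_div, ← Finset.sum_neg_distrib, ← Finset.sum_sub_distrib]
    refine Finset.sum_le_sum fun ψ _ => ?_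
    have h1 := mul_le_mul_of_nonneg_left (key ψ).1 (Nat.cast_nonneg (α := ℝ) (f ψ))
    rw [Complex.sub_re] at h1
    refine le_trans (le_of_eq ?_) h1
    ring
  · rw [Finset.sum_div, Finset.sum_div, ← Finset.sum_add_distrib]
    refine Finset.sum_le_sum fun ψ _ => ?_
    have h1 := mul_le_mul_of_nonneg_left (key ψ).2 (Nat.cast_nonneg (α := ℝ) (f ψ))
    rw [Complex.sub_re] at h1
    refine h1.trans (le_of_eq ?_)
    ring

end central

section general

variable {G : Type u} [Group G] [Finite G]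

/-- **The two-sided ratio lemma.** -/
theorem ratio {z s : G} (hzz : z * z = 1) (hz1 : z ≠ 1) {N : Subgroup G} [Fintype N] (hzN : z ∈ N)
    (hNz : ∀ x ∈ N, x * z = z * x) (hsz : s * z = z * s)
    (hs : ∀ x ∈ N, s * x * s⁻¹ ∈ N) (h3 : s * s * s ∈ N)
    (hsx : ∀ x ∈ N, ∃ c : G, c * z = z * c ∧ (c * (s * x) * c⁻¹ = s ∨ c * (s * x) * c⁻¹ = s * z))
    (hx : ∀ x ∈ N, x ≠ 1 → x ≠ z → ∃ c : G, c * z = z * c ∧ c * x * c⁻¹ = x * z) {m : ℕ} (hm0 : 0 < m)
    (hm : Nat.card N = 2 * m ^ 2) {χ : G → ℂ} (hχ : IsCharacter G χ) :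
    -((∑ x : N, χ x).re / Nat.card N / 2) - (χ 1 - χ z).re / (2 * m) ≤ (χ s).re ∧
      (χ s).re ≤ (∑ x : N, χ x).re / Nat.card N + (χ 1 - χ z).re / (2 * m) := by
  classical
  set C := centralizer ({z} : Set G) with hC
  have memC : ∀ {g : G}, g * z = z * g → g ∈ C := fun h => mem_centralizer_singleton_iff.2 h
  have hle : N ≤ C := fun x hxN => memC (hNz x hxN)
  let N' : Subgroup C := N.subgroupOf C
  have : Fintype N' := Fintype.ofFinite N'
  have hN'c : Nat.card N' = Nat.card N := Nat.card_congr (subgroupOfEquivOfLe hle).toEquiv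
  have hmem : ∀ x : C, x ∈ N' ↔ (x : G) ∈ N := fun x => mem_subgroupOf
  have hsum : ∑ x : N', χ ((x : C) : G) = ∑ x : N, χ x :=
    Fintype.sum_equiv (subgroupOfEquivOfLe hle).toEquiv _ _ fun x => rfl
  have hzC : z ∈ C := memC rfl
  have key := ratio_central (G := C) (z := ⟨z, hzC⟩) (s := ⟨s, memC hsz⟩) (N := N') (m := m)
    (χ := fun g : C => χ g)
    (fun g => Subtype.ext (mem_centralizer_singleton_iff.1 g.2)) (Subtype.ext hzz) ((hmem _).2 hzN)
    (fun h => hz1 (congrArg Subtype.val h))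
    (fun x hx' => (hmem _).2 (hs x ((hmem _).1 hx'))) ((hmem _).2 h3)
    (fun x hx' => by
      obtain ⟨c, hc, h | h⟩ := hsx x ((hmem _).1 hx')
      · left
        exact isConj_iff.2 ⟨⟨c, memC hc⟩, Subtype.ext h⟩
      · right
        exact isConj_iff.2 ⟨⟨c, memC hc⟩, Subtype.ext h⟩)
    (fun x hx' h1 h2 => by
      obtain ⟨c, hc, h⟩ := hx x ((hmem _).1 hx') (fun h => h1 (Subtype.ext h)) (fun h => h2 (Subtype.ext h))
      exact isConj_iff.2 ⟨⟨c, memC hc⟩, Subtype.ext h⟩)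
    hm0 (by rw [hN'c, hm]) (isCharacter_comp C.subtype hχ)
  rw [hN'c, hsum] at key
  exact key

end general

end Cfsg.Agent.H529.MSev.RatExt
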