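import Cfsg.Agent.H529.MSev.L19
import Cfsg.Agent.H58.Mon.Bnd
import Cfsg.Agent.H740.OreM.CaseT
import Cfsg.Agent.H979.Ore.CaseZ
import Cfsg.Agent.H979.OreM.Loc41
import Cfsg.Agent.MonsterP.Equiv

/-!
# S4171, row M: products of four involutions (helper529)

* `t1_of` : the elements with `|C(g)| ≤ 2 · 10¹⁵` (from the degree lemma);
* `four_of` : all elements, from the elements of orders `2 ^ k` and `3 ^ k` and the bound for the elements of prime order `≥ 5`.
-/

set_option autoImplicit false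
set_option maxRecDepth 100000

namespace Cfsg.Agent.H529.MSev.Row

open Cfsg Subgroup
open Cfsg.Agent.BpSpor.MBigModel (MG zz cls finite)
open Cfsg.Agent.H995.CopEngine (AllKnown)
open Cfsg.Agent.H715.Mon.Grp (SThree)
open Cfsg.Agent.H777.Ore (I4 Inv4)
open Cfsg.Agent.Characters.Core

universe u

theorem I4.of_conj {G : Type*} [Group G] {g : G} (u : G) (h : I4 (u * g * u⁻¹)) : I4 g := by
  obtain ⟨a, b, c, d, ha, hb, hc, hd, e⟩ := h
  have key : ∀ x : G, x * x = 1 → (u⁻¹ * x * u) * (u⁻¹ * x * u) = 1 := by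
    intro x hx
    calc (u⁻¹ * x * u) * (u⁻¹ * x * u) = u⁻¹ * (x * x) * u := by group
      _ = 1 := by rw [hx]; group
  refine ⟨u⁻¹ * a * u, u⁻¹ * b * u, u⁻¹ * c * u, u⁻¹ * d * u, key a ha, key b hb, key c hc, key d hd, ?_⟩
  calc g = u⁻¹ * (u * g * u⁻¹) * u := by group
    _ = _ := by rw [e]; group

theorem I4.of_equiv {G H : Type*} [Group G] [Group H] (e : G ≃* H) (h : Inv4 H) : Inv4 G := by
  intro g
  obtain ⟨a, b, c, d, ha, hb, hc, hd, e1⟩ := h (e g)
  have key : ∀ x : H, x * x = 1 → e.symm x * e.symm x = 1 := fun x hx => by rw [← map_mul, hx, map_one]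
  refine ⟨e.symm a, e.symm b, e.symm c, e.symm d, key a ha, key b hb, key c hc, key d hd, e.injective ?_⟩
  simp only [map_mul, e.apply_symm_apply]
  exact e1

/-- the hypothesis on the degrees -/
def Deg : Prop := ∀ χ : IrrCharacter MG, (χ : MG → ℂ) ≠ 1 → charDegree (χ : MG → ℂ) % 41 ∈ [1, 40] →
  charDegree (χ : MG → ℂ) % 19 ∈ [1, 4, 15, 18] → 280000000 ≤ charDegree (χ : MG → ℂ)

/-- **The elements with small centralizers.** -/
theorem t1_of (hK : AllKnown.{0}) (hS : SThree.{0}) (hdeg : Deg) {g : MG}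
    (hg : Nat.card (centralizer ({g} : Set MG)) ≤ 2000000000000000) : I4 g :=
  L19.i4_of_deg hS (fun x hx => H979.OreM.cent_41 hK (H241.NH.three_of fun X hX hC => hS _ X hX hC) hx) hdeg
    (by norm_num) hg

theorem orderOf_conj' {G : Type*} [Group G] (u g : G) : orderOf (u * g * u⁻¹) = orderOf g := by
  rw [show u * g * u⁻¹ = MulAut.conj u g from rfl, MulEquiv.orderOf_eq]

/-- **All elements.** -/
theorem four_of (hT : ∀ g : MG, Nat.card (centralizer ({g} : Set MG)) ≤ 2000000000000000 → I4 g)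
    (hB : ∀ {x : MG} {q : ℕ}, q.Prime → 5 ≤ q → orderOf x = q →
      Nat.card (centralizer ({x} : Set MG)) ≤ 2000000000000000)
    (htwo : ∀ g : MG, (∃ k : ℕ, orderOf g = 2 ^ k) → I4 g)
    (hthree : ∀ g : MG, (∃ k : ℕ, g ^ 3 ^ k = 1) → I4 g) : Inv4 MG := by
  have hfin := finite
  intro g
  have hpos := orderOf_pos g
  by_cases h2 : ∃ k : ℕ, orderOf g = 2 ^ k
  · exact htwo g h2
  have h2' : ∀ k : ℕ, orderOf g ≠ 2 ^ k := fun k hk => h2 ⟨k, hk⟩
  by_cases h1 : 2 ∣ orderOf g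
  · obtain ⟨m, hm⟩ := h1
    have hm0 : m ≠ 0 := by
      rintro rfl
      omega
    have hv : orderOf (g ^ m) = 2 := by
      rw [orderOf_pow_of_dvd hm0 ⟨2, by rw [hm]; ring⟩, hm]
      exact Nat.mul_div_cancel 2 (Nat.pos_of_ne_zero hm0)
    have hvm : g ^ m ∈ zpowers g := Subgroup.pow_mem _ (Subgroup.mem_zpowers g) m
    rcases cls hv with ⟨u, hu⟩ | h
    · apply I4.of_conj u⁻¹
      have e : orderOf (u⁻¹ * g * u⁻¹⁻¹) = orderOf g := orderOf_conj' _ _
      refine hT _ ((H979.Ore.CaseZ.card_cent_le ?_ ?_).trans (by norm_num))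
      · have h3 : zz = (u⁻¹ * g * u⁻¹⁻¹) ^ m := by
          rw [conj_pow, ← hu]; group
        rw [h3]
        exact Subgroup.pow_mem _ (Subgroup.mem_zpowers _) m
      · intro k
        rw [e]
        exact h2' k
    · exact hT _ (H740.OreM.card_cent_le (by norm_num) hB h hvm h2')
  by_cases h3 : ∃ q : ℕ, q.Prime ∧ 5 ≤ q ∧ q ∣ orderOf g
  · obtain ⟨q, hq, h5, m, hm⟩ := h3
    have hm0 : m ≠ 0 := by
      rintro rfl
      omega
    have hv : orderOf (g ^ m) = q := by
      rw [orderOf_pow_of_dvd hm0 ⟨q, by rw [hm, mul_comm]⟩, hm]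
      exact Nat.mul_div_cancel q (Nat.pos_of_ne_zero hm0)
    refine hT g ((card_le_of_le ?_).trans (hB hq h5 hv))
    intro c hc
    have hc' : Commute c g := mem_centralizer_singleton_iff.1 hc
    exact mem_centralizer_singleton_iff.2 (hc'.pow_right m).eq
  · apply hthree g
    have h4 : ∀ {d : ℕ}, d.Prime → d ∣ orderOf g → d = 3 := by
      intro d hd hdg
      have h5 : ¬ 5 ≤ d := fun h5 => h3 ⟨d, hd, h5, hdg⟩
      have h6 := hd.two_le
      have h7 : d ≠ 2 := fun h => h1 (h ▸ hdg)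
      have h8 : d ≠ 4 := by
        rintro rfl
        norm_num at hd
      omega
    refine ⟨(orderOf g).primeFactorsList.length, ?_⟩
    rw [← Nat.eq_prime_pow_of_unique_prime_dvd hpos.ne' h4]
    exact pow_orderOf_eq_one g

/-- **The Monster.** -/
theorem row_of {S : Type u} [Group S] (h : Spor.IsoM S) (hI : Inv4 MG) : Inv4 S := by
  obtain ⟨f⟩ := h
  obtain ⟨g⟩ := MonsterP.Equiv.equiv
  exact I4.of_equiv (f.trans g) hI

end Cfsg.Agent.H529.MSev.Row
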