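import Cfsg.Agent.H529.Inv.Pair
import Cfsg.Agent.H58.Cop.MSc
import Cfsg.Agent.H979.OreM.Loc41
import Cfsg.Agent.H715.Mon.Norm
import Cfsg.Agent.H241.NHThree

/-!
# S4173, row M: the classes of elements of orders 59 and 41 (helper529)

* `t1_5941` : `g` is a product of a conjugate of `a` (order 59) and a conjugate of `b` (order 41) as soon as
  `58 (B - 1) < D²`, `|C(g)| ≤ B`, `D ≤ χ(1)` for all nontrivial `χ` of degree prime to 59 and 41;
* `t1_5941'` : the same with the degree hypothesis in the form of the residues.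
-/

set_option autoImplicit false
set_option maxRecDepth 100000

namespace Cfsg.Agent.H529.MSev.T5941

open Cfsg Subgroup
open Cfsg.Agent.BpSpor.MBigModel (MG zz cls finite)
open Cfsg.Agent.H995.CopEngine (AllKnown)
open Cfsg.Agent.H715.Mon.Grp (SThree)
open Cfsg.Agent.Characters.Core
open Cfsg.Agent.H65.Ore (Prd)

/-- the order -/
theorem card_MG : Nat.card MG = 808017424794512875886459904961710757005754368000000000 :=
  BpSpor.MBigModel.card_M

theorem not_comm {x : MG} {p : ℕ} (hp : p < 100) (hc : Nat.card (centralizer ({x} : Set MG)) = p) :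
    ¬ IsMulCommutative MG := by
  intro h
  have h1 : centralizer ({x} : Set MG) = ⊤ := by
    rw [eq_top_iff]
    intro y _
    rw [mem_centralizer_singleton_iff]
    exact h.is_comm.comm y x
  rw [h1, Subgroup.card_top, card_MG] at hc
  omega

theorem cent_59 (hK : AllKnown.{0}) {x : MG} (hx : orderOf x = 59) : Nat.card (centralizer ({x} : Set MG)) = 59 :=
  (H58.Cop.M.norm_fiftynine hK hx).1

theorem cent_41 (hK : AllKnown.{0}) (hS : SThree.{0}) {x : MG} (hx : orderOf x = 41) :
    Nat.card (centralizer ({x} : Set MG)) = 41 :=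
  H979.OreM.cent_41 hK (H241.NH.three_of fun X hX hC => hS _ X hX hC) hx

/-- **The pair (59, 41)**, with the residues. -/
theorem t1_5941' (hK : AllKnown.{0}) (hS : SThree.{0}) {D B : ℕ}
    (hdeg : ∀ χ : IrrCharacter MG, (χ : MG → ℂ) ≠ 1 → charDegree (χ : MG → ℂ) % 59 ∈ [1, 58, 29, 30] →
      charDegree (χ : MG → ℂ) % 41 ∈ [1, 40] → D ≤ charDegree (χ : MG → ℂ))
    (hnum : 58 * (B - 1) < D ^ 2) {a b : MG} (ha : orderOf a = 59) (hb : orderOf b = 41) {g : MG}
    (hg : Nat.card (centralizer ({g} : Set MG)) ≤ B) : Prd a b g := by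
  have hsim : IsSimpleGroup MG := BpSpor.MBigModel.simple
  have hfin : Finite MG := finite
  have p41 : Nat.Prime 41 := by norm_num
  have p59 : Nat.Prime 59 := by norm_num
  have c59 := cent_59 hK ha
  have c41 := cent_41 hK hS hb
  have hna := not_comm (by norm_num) c59
  obtain ⟨NE, X, hD⟩ := H65.Ore.exists_dat hna p41 card_MG hb c41 40 1 (41 ^ 4) (by decide +kernel)
  obtain ⟨NE', X', hD'⟩ := H65.Ore.exists_dat hna p59 card_MG ha c59 29 2 (59 ^ 4) (by decide +kernel)
  have hle : ∀ χ : IrrCharacter MG, ‖(χ : MG → ℂ) b‖ ^ 2 ≤ ((1 : ℕ) : ℝ) := by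
    intro χ
    have h1 := H529.Inv.Pair.sq_le_of_dat hD (by norm_num) hb χ
    norm_num at h1 ⊢
    exact h1
  refine (H529.Inv.Pair.prd_pair (mx := 1) (cy := 59) (c := B) (d := D) hle c59.le ?_ hg (by norm_num; exact hnum)).swap
  intro χ h1 h2 h3
  refine hdeg χ h1 (H529.Inv.Pair.mod_of_dat hD' ha h3) ?_
  have h7 := H529.Inv.Pair.mod_of_dat hD hb h2
  simp only [List.mem_cons, List.not_mem_nil, or_false] at h7 ⊢
  omega

/-- **The pair (59, 41).** -/
theorem t1_5941 (hK : AllKnown.{0}) (hS : SThree.{0}) {D B : ℕ}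
    (hdeg : ∀ χ : IrrCharacter MG, (χ : MG → ℂ) ≠ 1 → ¬ 59 ∣ charDegree (χ : MG → ℂ) →
      ¬ 41 ∣ charDegree (χ : MG → ℂ) → D ≤ charDegree (χ : MG → ℂ))
    (hnum : 58 * (B - 1) < D ^ 2) {a b : MG} (ha : orderOf a = 59) (hb : orderOf b = 41) {g : MG}
    (hg : Nat.card (centralizer ({g} : Set MG)) ≤ B) : Prd a b g := by
  refine t1_5941' hK hS (fun χ h1 h2 h3 => hdeg χ h1 ?_ ?_) hnum ha hb hg
  · simp only [List.mem_cons, List.not_mem_nil, or_false] at h2
    omega
  · simp only [List.mem_cons, List.not_mem_nil, or_false] at h3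
    omega

end Cfsg.Agent.H529.MSev.T5941
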